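import Groth.Agent.L03.SurfAdj.Canonical
import Groth.Agent.L03.SurfNum.Gram
import Groth.Agent.L03.SurfNum.Decomp
import Groth.Agent.L22.CurveDeg.Det.Main

/-!
# Numerical tools for curves and effective modules on surfaces
-/

set_option autoImplicit false
set_option backward.isDefEq.respectTransparency false
set_option linter.style.haveILetI false
set_option linter.unusedSectionVars false

universe u

open CategoryTheory CategoryTheory.Limits AlgebraicGeometry

noncomputable section

namespace Groth.L03.SurfAdj

open Groth.L22.Inter Groth.L22.Nef Groth.L22.Big Groth.L03.Euler Groth.L03.SurfNum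
open Groth.L00.Tensor (tensorIso tensorComm tensorUnitLeft tensorUnitRight tensorAssoc)
open Groth.L21.RR (h)

variable (k : Type u) [Field k] {X : Scheme.{u}} [X.Over (Spec (CommRingCat.of k))]
  [IsProper (X ↘ Spec (CommRingCat.of k))] [IsIntegral X]

include k in
theorem reg_of_smooth [Smooth (X ↘ Spec (CommRingCat.of k))] (x : X) :
    IsRegularLocalRing (X.presheaf.stalk x) :=
  Groth.L08.Cube.isRegularLocalRing_of_smooth (X ↘ Spec (CommRingCat.of k)) x

/-- `χ` is additive along an ideal. -/
theorem euler_quotMod (I : X.IdealSheafData) (hI : PicF.IsInvertible (ClSub.idealMod I)) :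
    Curv2.euler k X (Coh.structureModule X) =
      Curv2.euler k X (ClSub.idealMod I) + Curv2.euler k X (ClSub.quotMod I) := by
  haveI := Groth.L21.RR.isNoetherian_of_proper (X := X) k
  have h := euler_add (k := k) (Groth.L21.RR.shortExact_idealSeq I) (Groth.L18.Ample.isCoh_of_isInvertible hI)
    Groth.L16.CohClosedPush.isCoh_structure (Groth.L21.RR.isCoh_quotMod I)
  change Curv2.euler k X (Coh.structureModule X) =
    Curv2.euler k X (ClSub.idealMod I) + Curv2.euler k X (ClSub.quotMod I) at h
  exact h

/-- `χ(O_Z)` computed on the surface. -/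
theorem euler_subscheme (I : X.IdealSheafData) :
    letI : I.subscheme.Over (Spec (CommRingCat.of k)) := ⟨I.subschemeι ≫ (X ↘ (Spec (CommRingCat.of k)))⟩
    Curv2.euler k X (ClSub.quotMod I) = Curv2.euler k I.subscheme (Coh.structureModule I.subscheme) := by
  letI : I.subscheme.Over (Spec (CommRingCat.of k)) := ⟨I.subschemeι ≫ (X ↘ (Spec (CommRingCat.of k)))⟩
  refine finsum_congr fun p => ?_
  obtain ⟨q⟩ := nonempty_twistQuot_equiv k I (Groth.L18.Ample.isInvertible_structureModule X) p
  rw [← finrank_HH_of_iso (tensorUnitLeft (ClSub.quotMod I)), q.finrank_eq]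
  exact congrArg (fun z : ℕ => (-1 : ℤ) ^ p * (z : ℤ))
    (finrank_HH_of_iso (Groth.L29.LocFree.pullbackUnitIso I.subschemeι) p)

variable [IsAlgClosed k]

/-- An integral curve has `χ(O) ≤ 1`, with equality exactly when `H¹(O) = 0`. -/
theorem curve_euler (I : X.IdealSheafData) [IsIntegral I.subscheme]
    (hI : topologicalKrullDim (I.support : Set X) = 1) :
    Curv2.euler k X (ClSub.quotMod I) ≤ 1 ∧ (Curv2.euler k X (ClSub.quotMod I) = 1 ↔
      Subsingleton (Coh.HH I.subscheme (Coh.structureModule I.subscheme) 1)) := by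
  letI : I.subscheme.Over (Spec (CommRingCat.of k)) := ⟨I.subschemeι ≫ (X ↘ (Spec (CommRingCat.of k)))⟩
  haveI : IsProper (I.subscheme ↘ Spec (CommRingCat.of k)) :=
    inferInstanceAs (IsProper (I.subschemeι ≫ (X ↘ Spec (CommRingCat.of k))))
  haveI := Groth.L21.RR.isNoetherian_of_proper (X := I.subscheme) k
  have hd : topologicalKrullDim I.subscheme = 1 := by
    rw [← dim_closure_image I.subschemeι, ← dim_support I, hI]
  haveI : Module.Finite k (Coh.HH I.subscheme (Coh.structureModule I.subscheme) 1) :=
    Groth.L16.ProperFinite.finite_HH k Groth.L16.CohClosedPush.isCoh_structure 1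
  have hχ : Curv2.euler k X (ClSub.quotMod I) =
      1 - (Module.finrank k (Coh.HH I.subscheme (Coh.structureModule I.subscheme) 1) : ℤ) := by
    rw [euler_subscheme k I, Groth.L21.RR.euler_eq k hd.le, Groth.L22.CurveDeg.h0_structure_eq_one k]
    rfl
  rw [hχ]
  refine ⟨by omega, ?_⟩
  rw [← Module.finrank_zero_iff (R := k)]
  omega

variable {W : X.Modules}

/-- Adjunction for effective divisors. -/
theorem adj_num (hdim : topologicalKrullDim X = 2) (hreg : ∀ x : X, IsRegularLocalRing (X.presheaf.stalk x))
    (hW : ExtPow.IsExtPow 2 (Omega.sheaf (X ↘ Spec (CommRingCat.of k))) W)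
    (I : X.IdealSheafData) (hI : PicF.IsInvertible (ClSub.idealMod I)) :
    2 * (Curv2.euler k X (ClSub.quotMod I) : ℚ) =
      ii k (ClSub.idealMod I) W - ii k (ClSub.idealMod I) (ClSub.idealMod I) := by
  have h := (canonical k hdim hreg hW).2.2.2 _ hI
  have h2 : (Curv2.euler k X (Coh.structureModule X) : ℚ) =
      Curv2.euler k X (ClSub.idealMod I) + Curv2.euler k X (ClSub.quotMod I) := by
    exact_mod_cast euler_quotMod k I hI
  linarith

omit [IsAlgClosed k] in
/-- A nonzero section forces nonnegative degree against an ample module; degree zero forces triviality. -/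
theorem section_facts (hd2 : topologicalKrullDim X = (2 : ℕ)) {N H : X.Modules} (hN : PicF.IsInvertible N)
    (hH : CohB1.IsAmple H) (hs : Nontrivial (Coh.HH X N 0)) :
    0 ≤ ii k N H ∧ (ii k N H = 0 → Nonempty (Coh.structureModule X ≅ N)) := by
  haveI := hs
  obtain ⟨s, hs⟩ := Groth.L21.RR.exists_hom_ne_zero (L := N)
  refine ⟨?_, fun h0 => ?_⟩
  · rcases ii_effective k hd2.le hN hH s hs with h | h
    · exact h.le
    · exact (h H hH.1).ge
  · by_contra hne
    have := ii_effective_pos k hd2.le hd2 hN hH s hs (not_nonempty_iff.1 hne)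
    linarith

omit [IsAlgClosed k] in
/-- A curve against which an effective module is negative has negative square. -/
theorem selfInt_neg (hd2 : topologicalKrullDim X = (2 : ℕ))
    (hreg : ∀ x : X, IsRegularLocalRing (X.presheaf.stalk x)) {N : X.Modules} (hN : PicF.IsInvertible N)
    (hs : Nontrivial (Coh.HH X N 0)) (I : X.IdealSheafData) [IsIntegral I.subscheme]
    (hI : topologicalKrullDim (I.support : Set X) = 1) (hneg : 0 < ii k N (ClSub.idealMod I)) :
    ii k (ClSub.idealMod I) (ClSub.idealMod I) < 0 := by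
  haveI := Groth.L21.RR.isNoetherian_of_proper (X := X) k
  haveI := hs
  obtain ⟨s, hs⟩ := Groth.L21.RR.exists_hom_ne_zero (L := N)
  have hinv := isInvertible_idealMod k hd2 hreg I hI
  obtain ⟨T, m, hT, -, hsum⟩ := exists_sum_curves k hd2.le hN s (Groth.L22.CurveAmple.genericPoint_mem_genLocus hN hs)
  set z := I.subschemeι (genericPoint I.subscheme)
  by_contra hge
  rw [not_lt] at hge
  have h := hsum _ hinv
  have hle : ∀ y ∈ T, altT k (fun _ : Fin 1 => ClSub.idealMod I) (ClSub.quotMod (pt y)) ≤ 0 := by
    intro y hy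
    haveI := isIntegral_pt y
    have hyd : topologicalKrullDim ((pt y).support : Set X) = 1 := by
      rw [dim_support (pt y), genericPoint_pt, (hT y hy).1, Nat.cast_one]
    have hyinv := isInvertible_idealMod k hd2 hreg (pt y) hyd
    rw [altT_quotMod_eq k hinv (pt y) hyinv, neg_nonpos]
    by_cases hyz : pt y = I
    · rw [hyz]; exact hge
    · exact Gram.curve_pair_nonneg k hd2.le (pt y) I hyd hI hyinv hinv hyz
  have : ii k N (ClSub.idealMod I) ≤ 0 := by
    rw [h]
    exact Finset.sum_nonpos fun y hy => mul_nonpos_of_nonneg_of_nonpos (Nat.cast_nonneg _) (hle y hy)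
  linarith

end Groth.L03.SurfAdj

namespace Groth.L03.SurfAdj

open Groth.L22.Inter Groth.L22.Nef Groth.L22.Big Groth.L03.Euler Groth.L03.SurfNum
open Groth.L00.Tensor (tensorIso tensorComm tensorUnitLeft tensorUnitRight tensorAssoc)

variable (k : Type u) [Field k] {X : Scheme.{u}} [X.Over (Spec (CommRingCat.of k))]
  [IsProper (X ↘ Spec (CommRingCat.of k))]

/-- The Euler characteristic on a surface. -/
theorem euler_three (hd2 : topologicalKrullDim X = (2 : ℕ)) (M : X.Modules) :
    Curv2.euler k X M = (Module.finrank k (Coh.HH X M 0) : ℤ) - Module.finrank k (Coh.HH X M 1) +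
      Module.finrank k (Coh.HH X M 2) := by
  haveI := Groth.L21.RR.isNoetherian_of_proper (X := X) k
  rw [euler_eq_sum (k := k) (N := 3) fun i hi => subsingleton_HH_of_dim hd2.le _ hi,
    Finset.sum_range_succ, Finset.sum_range_succ, Finset.sum_range_one]
  simp
  ring

variable [IsIntegral X]

/-- Numerically trivial in the sense of degrees on curves is orthogonal to ample modules. -/
theorem orth_of_isNumEquivZero (hd2 : topologicalKrullDim X = (2 : ℕ))
    (hreg : ∀ x : X, IsRegularLocalRing (X.presheaf.stalk x)) {L H : X.Modules} (hL : PicF.IsInvertible L)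
    (hnum : Pic13.IsNumEquivZero k X L) (hH : CohB1.IsAmple H) : ii k L H = 0 := by
  haveI := Groth.L21.RR.isNoetherian_of_proper (X := X) k
  have hcurve : ∀ y : X, topologicalKrullDim (closure ({y} : Set X)) = (1 : ℕ) →
      altT k (fun _ : Fin 1 => L) (ClSub.quotMod (pt y)) = 0 := by
    intro y hy
    haveI := isIntegral_pt y
    let i := (pt y).subschemeι
    letI : (pt y).subscheme.Over (Spec (CommRingCat.of k)) := ⟨i ≫ (X ↘ (Spec (CommRingCat.of k)))⟩
    haveI : IsProper ((pt y).subscheme ↘ Spec (CommRingCat.of k)) :=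
      inferInstanceAs (IsProper (i ≫ (X ↘ Spec (CommRingCat.of k))))
    haveI := Groth.L21.RR.isNoetherian_of_proper (X := (pt y).subscheme) k
    have hd : topologicalKrullDim (pt y).subscheme = (1 : ℕ) := by
      rw [← dim_closure_image i, genericPoint_pt, hy]
    have hd1 : topologicalKrullDim (pt y).subscheme = 1 := hd.trans Nat.cast_one
    have hyinv := isInvertible_idealMod k hd2 hreg (pt y)
      ((dim_support (pt y)).trans (by rw [genericPoint_pt, hy, Nat.cast_one]))
    have h0 := hnum (pt y).subscheme i inferInstance hd1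
    have h1 : ∀ M : (pt y).subscheme.Modules, FGA.eulerCharLE k (pt y).subscheme M 1 =
        Curv2.euler k (pt y).subscheme M := fun M => by
      rw [Groth.L21.RR.euler_eq k hd1.le, FGA.eulerCharLE, Finset.sum_range_succ, Finset.sum_range_one]
      simp [Groth.L21.RR.h]
      ring
    have h2 : Curv2.deg k (pt y).subscheme ((Scheme.Modules.pullback i).obj L) 1 = 0 := by
      change FGA.eulerCharLE k (pt y).subscheme ((Scheme.Modules.pullback i).obj L) 1 -
        FGA.eulerCharLE k (pt y).subscheme (Coh.structureModule (pt y).subscheme) 1 = 0 at h0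
      rw [h1, h1] at h0
      rw [Curv2.deg]
      simpa using h0
    have h3 := Groth.L03.SurfNum.CurveDegree.deg_pullback k i hd2 hreg hd hL
    rw [h2, Scheme.IdealSheafData.ker_subschemeι] at h3
    rw [altT_quotMod_eq k hL (pt y) hyinv]
    simpa using h3.symm
  obtain ⟨m₀, σ, hη, -⟩ := hH.2.2 (genericPoint X)
  have hN := Groth.L18.Ample.isInvertible_tensorPow hH.1 (m₀ + 1)
  obtain ⟨T, m, hT, -, hsum⟩ := exists_sum_curves k hd2.le hN σ hη
  have h := hsum L hL
  rw [Finset.sum_eq_zero (fun y hy => by rw [hcurve y (hT y hy).1, mul_zero]),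
    ii_pow k hd2.le hH.1 hL, ii_comm] at h
  exact (mul_eq_zero.1 h).resolve_left (Nat.cast_ne_zero.2 (Nat.succ_ne_zero m₀))

end Groth.L03.SurfAdj

namespace Groth.L03.SurfAdj

open TopologicalSpace

variable {k : Type u} [Field k] {X : Scheme.{u}} (p : X ⟶ Spec (CommRingCat.of k))

/-- The dimension of an integral variety smooth of relative dimension `d`. -/
theorem dim_of_relDim [IsIntegral X] (d : ℕ) [hd : SmoothOfRelativeDimension d p] :
    topologicalKrullDim X = (d : ℕ) := by
  letI : X.Over (Spec (CommRingCat.of k)) := ⟨p⟩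
  haveI : Smooth p := SmoothOfRelativeDimension.smooth d p
  haveI : LocallyOfFiniteType (X ↘ Spec (CommRingCat.of k)) := (inferInstance : LocallyOfFiniteType p)
  obtain ⟨m, hm, -, hmU⟩ := Groth.L22.SchemeDim.exists_dim_eq_trdeg k X
  obtain ⟨x⟩ := (inferInstance : Nonempty X)
  obtain ⟨V, hV, W, hW, hxW, e, hsm⟩ :=
    SmoothOfRelativeDimension.exists_isStandardSmoothOfRelativeDimension (n := d) (f := p) x
  obtain rfl : V = ⊤ := by
    ext y
    simp only [Opens.coe_top, Set.mem_univ, iff_true]
    obtain rfl : y = p x := Subsingleton.elim (α := PrimeSpectrum k) _ _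
    exact e hxW
  let α := (p.appLE ⊤ W e).hom.comp (Scheme.ΓSpecIso (CommRingCat.of k)).inv.hom
  have hα : α.IsStandardSmoothOfRelativeDimension d := RingHom.isStandardSmoothOfRelativeDimension_respectsIso.2 _
    (Scheme.ΓSpecIso (CommRingCat.of k)).symm.commRingCatIsoToRingEquiv hsm
  letI : Algebra k Γ(X, W) := α.toAlgebra
  haveI : Algebra.IsStandardSmoothOfRelativeDimension d k Γ(X, W) := hα
  haveI : Nonempty W := ⟨⟨x, hxW⟩⟩
  have hdim : ringKrullDim Γ(X, W) = (m : ℕ) := by
    rw [← Groth.L22.SchemeDim.topologicalKrullDim_affineOpen hW]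
    exact hmU W ⟨x, hxW⟩
  rw [Groth.L16.SmoothSection.relDim_eq k Γ(X, W) d m hdim]
  exact hm

end Groth.L03.SurfAdj
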