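import Groth.Agent.L22.VeryAmple.Immersion
import Groth.Agent.L16.ProjSpace.Basic
import Groth.Prelude.Def_CohB1

/-!
# Large powers of an ample module embed a proper scheme in projective space
-/

set_option autoImplicit false
set_option linter.style.haveILetI false

universe u

open CategoryTheory CategoryTheory.Limits AlgebraicGeometry

noncomputable section

namespace Groth.L03.SurfAdj

variable (k : Type u) [Field k] {X : Scheme.{u}} [X.Over (Spec (CommRingCat.of k))]
  [IsProper (X ↘ Spec (CommRingCat.of k))]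

theorem exists_embedding {H : X.Modules} (hH : CohB1.IsAmple H) :
    ∃ m₀ : ℕ, ∀ m : ℕ, m₀ ≤ m → ∃ (n : ℕ) (ι : X ⟶ CohB1.ProjSpace n k), IsClosedImmersion ι ∧
      ι ≫ CohB1.ProjSpace.toSpec n k = (X ↘ Spec (CommRingCat.of k)) ∧
      Nonempty ((Scheme.Modules.pullback ι).obj (Twist.twistProjSpace n k 1) ≅ CohB1.tensorPow H m) := by
  haveI : X.IsSeparated := ⟨by rw [← terminal.comp_from (X ↘ Spec (CommRingCat.of k))]; infer_instance⟩
  obtain ⟨m₀, h⟩ := Groth.L22.VeryAmple.exists_forall_immersion_of_isAmple (X ↘ Spec (CommRingCat.of k)) hH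
  refine ⟨m₀, fun m hm => ?_⟩
  obtain ⟨n, r, hr, hi, ⟨e⟩⟩ := h m hm
  haveI := hi
  haveI : IsProper (r ≫ CohB1.ProjSpace.toSpec n k) := by
    rw [show r ≫ CohB1.ProjSpace.toSpec n k = (X ↘ Spec (CommRingCat.of k)) from hr]; infer_instance
  haveI : IsProper (CohB1.ProjSpace.toSpec n k) := Groth.L16.ProjSpace.isProper_toSpec n k
  haveI : IsProper r := IsProper.of_comp r (CohB1.ProjSpace.toSpec n k)
  exact ⟨n, r, IsClosedImmersion.of_isPreimmersion r r.isClosedMap.isClosed_range, hr, ⟨e⟩⟩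

/-- An ample module makes a proper scheme projective. -/
theorem exists_proj {H : X.Modules} (hH : CohB1.IsAmple H) :
    ∃ (n : ℕ) (ι : X ⟶ CohB1.ProjSpace n k), IsClosedImmersion ι ∧
      ι ≫ CohB1.ProjSpace.toSpec n k = (X ↘ Spec (CommRingCat.of k)) := by
  obtain ⟨m₀, h⟩ := exists_embedding k hH
  obtain ⟨n, ι, h1, h2, -⟩ := h m₀ le_rfl
  exact ⟨n, ι, h1, h2⟩

end Groth.L03.SurfAdj
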