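import Groth.Agent.L22.CurveDeg.Det.ExtPow
import Groth.Agent.L22.PicGlue.GensIso
import Groth.Agent.L21.RR.Sections
import Groth.Agent.L21.Mod.Stalks

/-!
# The determinant of an extension of two invertible modules
-/

set_option autoImplicit false
set_option backward.isDefEq.respectTransparency false
set_option linter.style.haveILetI false
universe u

open CategoryTheory CategoryTheory.Limits AlgebraicGeometry TopologicalSpace Opposite

noncomputable section

namespace Groth.L03.SurfAdj

open Groth.L18.Frame (rs ro rs_rs rs_self rs_smul ro_ro IsFrame pull)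
open Groth.L20.ModStalk (germ_smul germ_rs)
open Groth.L21.RR (st st_germ bijective_germ_frame)
open Groth.L18.GenLoc (tens tens_rs tens_smul_left tens_smul_right isFrame_tens)
open Groth.L22.CurveDeg.Det

variable {Z X : Scheme.{u}}

theorem sum_comp {R M : Type*} [CommRing R] [AddCommGroup M] [Module R M] {n : ℕ}
    (A B : Matrix (Fin n) (Fin n) R) (q : Fin n → M) (k : Fin n) :
    ∑ l, A k l • ∑ m, B l m • q m = ∑ m, (A * B) k m • q m := by
  simp only [Finset.smul_sum, smul_smul, Matrix.mul_apply, Finset.sum_smul]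
  exact Finset.sum_comm

theorem exact_st {S : ShortComplex Z.Modules} (hS : S.ShortExact) (z : Z) :
    Function.Exact (st S.f z) (st S.g z) ∧ Function.Surjective (st S.g z) := by
  have h := (Groth.L21.Mod.shortExact_iff_stalk S).1 hS z
  constructor
  · exact (ShortComplex.ab_exact_iff_function_exact _).1 h.exact
  · haveI := h.epi_g
    exact (AddCommGrpCat.epi_iff_surjective _).1 h.epi_g

/-- A section lifts locally along an epimorphism. -/
theorem exists_lift {S : ShortComplex Z.Modules} (hS : S.ShortExact) {O : Z.Opens} (b : Γ(S.X₃, O)) {z : Z}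
    (hz : z ∈ O) :
    ∃ (V : Z.Opens) (h : V ≤ O) (σ : Γ(S.X₂, V)), z ∈ V ∧ S.g.app V σ = rs S.X₃ h b := by
  obtain ⟨m, hm⟩ := (exact_st hS z).2 (S.X₃.presheaf.germ O z hz b)
  obtain ⟨O', hz', s, rfl⟩ := Groth.L00.StalkTensor.exists_germ (Groth.L00.Tensor.pre S.X₂) z m
  have hm' : S.X₃.presheaf.germ O' z hz' (S.g.app O' (show Γ(S.X₂, O') from s)) = S.X₃.presheaf.germ O z hz b :=
    (st_germ S.g hz' (show Γ(S.X₂, O') from s)).symm.trans hm
  obtain ⟨V, hV, i1, i2, h12⟩ := S.X₃.presheaf.germ_eq z hz' hz _ _ hm'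
  refine ⟨V, i2.le, rs S.X₂ i1.le (show Γ(S.X₂, O') from s), hV, ?_⟩
  refine Eq.trans ?_ h12
  exact congr($((Scheme.Modules.Hom.mapPresheaf S.g).naturality i1.op) (show Γ(S.X₂, O') from s))

theorem nonempty_det_iso (f : Z ⟶ X) {E W : X.Modules} (hE : FlatMod.IsFinLocFreeOfRank 2 E)
    (hW : ExtPow.IsExtPow 2 E W) {A B : Z.Modules} (hA : PicF.IsInvertible A) (hB : PicF.IsInvertible B)
    (α : A ⟶ (Scheme.Modules.pullback f).obj E) (β : (Scheme.Modules.pullback f).obj E ⟶ B) (w : α ≫ β = 0)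
    (hse : (ShortComplex.mk α β w).ShortExact) :
    Nonempty ((Scheme.Modules.pullback f).obj W ≅ CohB1.tensorMod A B) := by
  classical
  obtain ⟨φ, hφ⟩ := hW
  let F := (Scheme.Modules.pullback f).obj E
  let W' := (Scheme.Modules.pullback f).obj W
  -- local data
  have hloc : ∀ z : Z, ∃ (U : X.affineOpens) (e : Fin 2 → Γ(E, U.1)) (V : Z.Opens) (hVU : V ≤ f ⁻¹ᵁ U.1)
      (a : Γ(A, V)) (b : Γ(B, V)) (σ : Γ(F, V)), z ∈ V ∧ IsBasisS E e ∧ IsFrame A V a ∧ IsFrame B V b ∧
      β.app V σ = b := by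
    intro z
    obtain ⟨U, e, hU, -, he⟩ := exists_affine_basis hE (f z) ⊤ trivial
    obtain ⟨VA, a, hzA, ha⟩ := Groth.L18.Frame.exists_frame hA z
    obtain ⟨VB, b, hzB, hb⟩ := Groth.L18.Frame.exists_frame hB z
    obtain ⟨V, hV, σ, hzV, hσ⟩ := exists_lift hse (O := f ⁻¹ᵁ U.1 ⊓ VA ⊓ VB) (rs B inf_le_right b) (z := z)
      ⟨⟨hU, hzA⟩, hzB⟩
    exact ⟨U, e, V, hV.trans (inf_le_left.trans inf_le_left), rs A (hV.trans (inf_le_left.trans inf_le_right)) a,
      rs B hV (rs B inf_le_right b), σ, hzV, he, ha.mono _, (hb.mono _).mono _, hσ⟩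
  choose U e V hVU a b σ hzV he ha hb hσ using hloc
  let p := fun i (l : Fin 2) => rs F (hVU i) (pull f E (U i).1 (e i l))
  have hp : ∀ i (y : Z) (hy : y ∈ V i), Function.Bijective
      fun r : Fin 2 → Z.presheaf.stalk y => ∑ l, r l • F.presheaf.germ (V i) y hy (p i l) := fun i y hy => by
    simp only [p, germ_rs]
    exact isBasisS_pullback f (he i) y (hVU i hy)
  have hpS : ∀ i, Groth.L17.LocBases.IsBasis (O := Z.sheaf) F (W := V i) (p i) := fun i =>
    Groth.L17.PullBasis.isBasis_of_stalk F (p i) (hp i)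
  let row : ∀ i, Fin 2 → Γ(F, V i) := fun i => ![α.app (V i) (a i), σ i]
  have hcoef : ∀ i (k : Fin 2), ∃ r : Fin 2 → Γ(Z, V i), ∑ l, r l • p i l = row i k := fun i k => by
    obtain ⟨r, hr⟩ := ((hpS i) (V i) (𝟙 _)).2 (row i k)
    exact ⟨r, (Finset.sum_congr rfl fun l _ => congrArg (fun x => (show Γ(Z, V i) from r l) • x) (rs_self F le_rfl (p i l)).symm).trans hr⟩
  choose M hM using hcoef
  have hMg : ∀ i k (y : Z) (hy : y ∈ V i), F.presheaf.germ (V i) y hy (row i k) =
      ∑ l, Z.presheaf.germ (V i) y hy (M i k l) • F.presheaf.germ (V i) y hy (p i l) := fun i k y hy => by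
    rw [← hM i k, map_sum]
    exact Finset.sum_congr rfl fun l _ => germ_smul (M := F) hy (M i k l) (p i l)
  have hex := fun y => exact_st hse y
  have hrow : ∀ i (y : Z) (hy : y ∈ V i) (m : F.presheaf.stalk y),
      ∃ r : Fin 2 → Z.presheaf.stalk y, m = ∑ k, r k • F.presheaf.germ (V i) y hy (row i k) := fun i y hy m => by
    obtain ⟨t, ht⟩ := (bijective_germ_frame (hb i) hy).2 (st β y m)
    have h0 : st β y (m - t • F.presheaf.germ (V i) y hy (σ i)) = 0 := by
      rw [map_sub, map_smul, st_germ, hσ i]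
      exact sub_eq_zero.2 ht.symm
    obtain ⟨x, hx⟩ := ((hex y).1 _).1 h0
    obtain ⟨s, hs⟩ := (bijective_germ_frame (ha i) hy).2 x
    refine ⟨![s, t], ?_⟩
    have hx' : st α y x = m - t • F.presheaf.germ (V i) y hy (σ i) := hx
    simp only at hs
    rw [← hs, map_smul, st_germ] at hx'
    simp only [Fin.sum_univ_two, row, Matrix.cons_val_zero, Matrix.cons_val_one]
    rw [hx', sub_add_cancel]
  let Mg := fun i (y : Z) (hy : y ∈ V i) => Matrix.of fun k l => Z.presheaf.germ (V i) y hy (M i k l)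
  have hdet : ∀ i, IsUnit (Matrix.of (M i)).det := fun i => by
    refine RingedSpace.isUnit_of_isUnit_germ Z.toLocallyRingedSpace.toRingedSpace (V i) _ fun y hy => ?_
    choose P hP using fun l => hrow i y hy (F.presheaf.germ (V i) y hy (p i l))
    have h1 : Matrix.of P * Mg i y hy = 1 := by
      refine Matrix.ext fun l m => congrFun ((hp i y hy).1 ?_ :
        (fun m => (Matrix.of P * Mg i y hy) l m) = fun m => (1 : Matrix (Fin 2) (Fin 2) _) l m) m
      show ∑ m, (Matrix.of P * Mg i y hy) l m • _ = ∑ m, (1 : Matrix (Fin 2) (Fin 2) _) l m • _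
      rw [← sum_comp]
      simp only [Matrix.one_apply, ite_smul, one_smul, zero_smul, Finset.sum_ite_eq, Finset.mem_univ, if_true]
      rw [hP l]
      exact Finset.sum_congr rfl fun k _ => by rw [hMg i k y hy]; rfl
    have h2 := congrArg Matrix.det h1
    rw [Matrix.det_mul, Matrix.det_one] at h2
    have h3 : IsUnit (Mg i y hy).det := IsUnit.of_mul_eq_one _ ((mul_comm _ _).trans h2)
    have h4 : (Z.presheaf.germ (V i) y hy).hom (Matrix.of (M i)).det = (Mg i y hy).det :=
      RingHom.map_det _ _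
    exact h4.symm ▸ h3
  let ω := fun i => (Matrix.of (M i)).det • rs W' (hVU i) (pull f W (U i).1 (wedge φ (U i) (e i)))
  have hω : ∀ i, IsFrame W' (V i) (ω i) := fun i =>
    ((((isFrame_wedge φ hφ (U i) (e i) (he i)).pullback f).mono (hVU i)).smul_unit (hdet i))
  have hT : ∀ i, IsFrame (CohB1.tensorMod A B) (V i) (tens A B (V i) (a i) (b i)) := fun i =>
    isFrame_tens (ha i) (hb i)
  refine Groth.L22.PicGlue.nonempty_iso_of_gens V (e := ω) (e' := fun i => tens A B (V i) (a i) (b i))
    hω hT (fun z => ⟨z, hzV z⟩) fun i j O hi hj c hc => ?_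
  obtain ⟨u, hu⟩ := (ha i).exists_coeff hi (rs A hj (a j))
  obtain ⟨v, hv⟩ := (hb i).exists_coeff hi (rs B hj (b j))
  have hcuv : c = u * v := by
    refine TopCat.Presheaf.section_ext Z.sheaf O c (u * v) fun y hy => ?_
    show Z.presheaf.germ O y hy c = Z.presheaf.germ O y hy (u * v)
    have hyi : y ∈ V i := hi hy
    have hyj : y ∈ V j := hj hy
    -- the frames at the stalk
    have hua : A.presheaf.germ (V j) y hyj (a j) = Z.presheaf.germ O y hy u • A.presheaf.germ (V i) y hyi (a i) := by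
      rw [← germ_rs (M := A) hj hy, ← germ_rs (M := A) hi hy, ← hu, germ_smul]
    have hvb : B.presheaf.germ (V j) y hyj (b j) = Z.presheaf.germ O y hy v • B.presheaf.germ (V i) y hyi (b i) := by
      rw [← germ_rs (M := B) hj hy, ← germ_rs (M := B) hi hy, ← hv, germ_smul]
    let U0 := Z.presheaf.germ O y hy u
    let V0 := Z.presheaf.germ O y hy v
    obtain ⟨r, hr⟩ : ∃ r, F.presheaf.germ (V j) y hyj (σ j) =
        r • F.presheaf.germ (V i) y hyi (α.app (V i) (a i)) + V0 • F.presheaf.germ (V i) y hyi (σ i) := by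
      have h0 : st β y (F.presheaf.germ (V j) y hyj (σ j) - V0 • F.presheaf.germ (V i) y hyi (σ i)) = 0 := by
        rw [map_sub, map_smul, st_germ, st_germ, hσ i, hσ j]
        exact sub_eq_zero.2 hvb
      obtain ⟨x, hx⟩ := ((hex y).1 _).1 h0
      obtain ⟨r, hr⟩ := (bijective_germ_frame (ha i) hyi).2 x
      have hx' : st α y x = F.presheaf.germ (V j) y hyj (σ j) - V0 • F.presheaf.germ (V i) y hyi (σ i) := hx
      simp only at hr
      rw [← hr, map_smul, st_germ] at hx'
      exact ⟨r, by rw [hx', sub_add_cancel]⟩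
    have hαj : F.presheaf.germ (V j) y hyj (α.app (V j) (a j)) =
        U0 • F.presheaf.germ (V i) y hyi (α.app (V i) (a i)) := by
      rw [← st_germ α hyj, hua, map_smul, st_germ]
    let L : Matrix (Fin 2) (Fin 2) (Z.presheaf.stalk y) := !![U0, 0; r, V0]
    have hL : ∀ k, F.presheaf.germ (V j) y hyj (row j k) =
        ∑ l, L k l • F.presheaf.germ (V i) y hyi (row i l) := by
      intro k
      fin_cases k
      · simp [row, L, hαj]
      · simp [row, L, hr]
    choose P hP using fun l => (hp j y hyj).2 (F.presheaf.germ (V i) y hyi (p i l))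
    have hMj : Mg j y hyj = L * (Mg i y hyi * Matrix.of P) := by
      refine Matrix.ext fun k m => congrFun ((hp j y hyj).1 ?_ :
        (fun m => Mg j y hyj k m) = fun m => (L * (Mg i y hyi * Matrix.of P)) k m) m
      show ∑ m, Mg j y hyj k m • _ = ∑ m, (L * (Mg i y hyi * Matrix.of P)) k m • _
      rw [← sum_comp]
      refine ((hMg j k y hyj).symm.trans (hL k)).trans (Finset.sum_congr rfl fun l _ => congrArg _ ?_)
      rw [hMg i l y hyi, ← sum_comp]
      exact Finset.sum_congr rfl fun q _ => congrArg _ (hP q).symm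
    have hwedge : W'.presheaf.germ (f ⁻¹ᵁ (U i).1) y (hVU i hyi) (pull f W (U i).1 (wedge φ (U i) (e i))) =
        (Matrix.of P).det • W'.presheaf.germ (f ⁻¹ᵁ (U j).1) y (hVU j hyj) (pull f W (U j).1 (wedge φ (U j) (e j))) := by
      refine det_pullback φ hφ f (U i) (U j) (e i) (e j) (he j) y (hVU i hyi) (hVU j hyj) (Matrix.of P) fun l => ?_
      have h := (hP l).symm
      simp only [p, germ_rs] at h
      exact h
    have hdg : ∀ i' (h : y ∈ V i'), W'.presheaf.germ (V i') y h (ω i') =
        (Mg i' y h).det • W'.presheaf.germ (f ⁻¹ᵁ (U i').1) y (hVU i' h)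
          (pull f W (U i').1 (wedge φ (U i') (e i'))) := fun i' h => by
      refine (germ_smul (M := W') h _ _).trans ?_
      rw [germ_rs]
      exact congrArg (· • _) (RingHom.map_det (Z.presheaf.germ (V i') y h).hom (Matrix.of (M i')))
    have hrel : W'.presheaf.germ (V j) y hyj (ω j) = (U0 * V0) • W'.presheaf.germ (V i) y hyi (ω i) := by
      rw [hdg j, hdg i, hwedge, smul_smul, smul_smul, hMj]
      congr 1
      simp only [Matrix.det_mul, L, Matrix.det_fin_two_of]
      ring
    have hcg := congrArg (W'.presheaf.germ O y hy) hc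
    erw [germ_smul] at hcg
    rw [map_mul]
    refine (bijective_germ_frame (hω i) hyi).1 ?_
    show Z.presheaf.germ O y hy c • _ = (U0 * V0) • _
    rw [← hrel]
    refine Eq.trans ?_ (hcg.trans (germ_rs (M := W') hj hy _))
    exact congrArg (_ • ·) (germ_rs (M := W') hi hy _).symm
  show c • rs (CohB1.tensorMod A B) hi (tens A B (V i) (a i) (b i)) =
    rs (CohB1.tensorMod A B) hj (tens A B (V j) (a j) (b j))
  rw [tens_rs, tens_rs, ← hu, ← hv, tens_smul_left, tens_smul_right, smul_smul, hcuv]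

end Groth.L03.SurfAdj
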