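import Groth.Agent.L03.SurfDual.Duality
import Groth.Agent.L03.SurfNum.CurveDegree
import Groth.Agent.L16.SmoothSection.Dim
import Groth.Agent.L26.Weil.Axes
import Groth.Agent.L02.Canon.Basic
import Groth.Agent.L21.Duality.Main
import Groth.Agent.L19.OmegaSh.GroupScheme
import Groth.Agent.L19.OmegaSh.DiffCompat
import Groth.Agent.L19.OmegaSh.ConormalDiff
import Groth.Agent.L22.CurveDeg.NonSpecial
import Groth.Agent.L22.CurveDeg.Maps
import Groth.Agent.S12423
import Groth.Agent.S7638
import Groth.Agent.L16.NegPow.Gen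

/-!
# The adjunction formula for a regular curve on a surface
-/

set_option autoImplicit false
set_option backward.isDefEq.respectTransparency false
set_option linter.style.haveILetI false
set_option linter.unusedSectionVars false

universe u

open CategoryTheory CategoryTheory.Limits AlgebraicGeometry

noncomputable section

namespace Groth.L03.SurfAdj

open Groth.L22.Inter Groth.L22.Nef Groth.L22.Big Groth.L03.Euler

variable (k : Type u) [Field k] [IsAlgClosed k] {X : Scheme.{u}} [X.Over (Spec (CommRingCat.of k))]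
  [IsProper (X ↘ Spec (CommRingCat.of k))] [IsIntegral X] {C : Scheme.{u}} (i : C ⟶ X) [IsClosedImmersion i]
  [IsIntegral C]

/-- Conormal, restricted differentials, differentials of the curve. -/
theorem exists_seq (hdim : topologicalKrullDim X = (2 : ℕ))
    (hreg : ∀ x : X, IsRegularLocalRing (X.presheaf.stalk x)) (hC : topologicalKrullDim C = (1 : ℕ))
    (hCreg : ∀ c : C, IsRegularLocalRing (C.presheaf.stalk c)) :
    ∃ (φ : Omega.conormal i ⟶ (Scheme.Modules.pullback i).obj (Omega.sheaf (X ↘ Spec (CommRingCat.of k))))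
      (c : (Scheme.Modules.pullback i).obj (Omega.sheaf (X ↘ Spec (CommRingCat.of k))) ⟶
        Omega.sheaf (i ≫ (X ↘ Spec (CommRingCat.of k)))) (w : φ ≫ c = 0), (ShortComplex.mk φ c w).ShortExact := by
  let p := X ↘ Spec (CommRingCat.of k)
  have hX := Groth.L19.OmegaSh.isUniversal_dOmega (f := p)
  have hY := Groth.L19.OmegaSh.isUniversal_dOmega (f := i ≫ p)
  obtain ⟨φ, hφ⟩ := Groth.L19.OmegaSh.exists_conormalDiff i (OmegaSh.dOmega p)
  obtain ⟨c, hc, -⟩ := Groth.L19.OmegaSh.existsUnique_diffCompat i (𝟙 _) (Category.comp_id (i ≫ p)) hX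
    (OmegaSh.dOmega (i ≫ p))
  obtain ⟨w, hex, hepi⟩ := Groth.L19.OmegaSh.exact_conormal_diff i hX hY φ hφ c hc
  haveI := Groth.L21.RR.isNoetherian_of_proper (X := X) k
  have hmono : Mono φ := ((Groth.Agent.S12423.result k 2 1 X hreg hdim C i hC _ _ hX _ _ hY φ hφ).1.1 hCreg).2
  exact ⟨φ, c, w, { exact := hex, mono_f := hmono, epi_g := hepi }⟩

/-- The adjunction formula. -/
theorem adjunction (hdim : topologicalKrullDim X = (2 : ℕ))
    (hreg : ∀ x : X, IsRegularLocalRing (X.presheaf.stalk x)) (hC : topologicalKrullDim C = (1 : ℕ))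
    (hCreg : ∀ c : C, IsRegularLocalRing (C.presheaf.stalk c))
    {W : X.Modules} (hW : ExtPow.IsExtPow 2 (Omega.sheaf (X ↘ Spec (CommRingCat.of k))) W) :
    letI : C.Over (Spec (CommRingCat.of k)) := ⟨i ≫ (X ↘ (Spec (CommRingCat.of k)))⟩
    2 * (Curv2.genus k C : ℚ) - 2 =
      ii k (ClSub.idealMod i.ker) (ClSub.idealMod i.ker) - ii k (ClSub.idealMod i.ker) W := by
  letI : C.Over (Spec (CommRingCat.of k)) := ⟨i ≫ (X ↘ (Spec (CommRingCat.of k)))⟩
  haveI : IsProper (C ↘ Spec (CommRingCat.of k)) :=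
    inferInstanceAs (IsProper (i ≫ (X ↘ Spec (CommRingCat.of k))))
  haveI := Groth.L21.RR.isNoetherian_of_proper (X := X) k
  haveI := Groth.L21.RR.isNoetherian_of_proper (X := C) k
  haveI : Smooth (X ↘ Spec (CommRingCat.of k)) :=
    Groth.L26.Weil.smooth_of_regular_closed _ fun x _ => hreg x
  haveI : SmoothOfRelativeDimension 2 (X ↘ Spec (CommRingCat.of k)) :=
    Groth.L16.SmoothSection.smoothOfRelativeDimension_dim _ 2 hdim
  haveI : Smooth (C ↘ Spec (CommRingCat.of k)) :=
    Groth.L26.Weil.smooth_of_regular_closed _ fun x _ => hCreg x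
  have hΩ := Groth.L02.Canon.isFinLocFreeOfRank_omega (f := X ↘ Spec (CommRingCat.of k)) 2
  obtain ⟨φ, c, w, hse⟩ := exists_seq k i hdim hreg hC hCreg
  obtain ⟨hIinv, -⟩ := Groth.L03.SurfNum.CurveDegree.invertible_ker k i hdim hreg hC
  have hWinv : PicF.IsInvertible W := by
    obtain ⟨ψ, hψ⟩ := hW
    exact Groth.L22.CurveDeg.Det.isInvertible_of_extPow ψ hψ hΩ
  have hC1 : topologicalKrullDim C = 1 := hC.trans Nat.cast_one
  have hdet := Groth.Agent.S7638.deg_pullback k i hC1 hΩ hW
  have hω := (Groth.L21.Duality.omega_invariants (k := k) (X := C) hC1).2.2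
    (Groth.L22.CurveDeg.h0_structure_eq_one k)
  have hWd := Groth.L03.SurfNum.CurveDegree.deg_pullback k i hdim hreg hC hWinv
  have hId := Groth.L03.SurfNum.CurveDegree.deg_pullback k i hdim hreg hC hIinv
  have hΩC : PicF.IsInvertible (Omega.sheaf (C ↘ Spec (CommRingCat.of k))) :=
    Groth.L21.Duality.isInvertible_omega (k := k) hC1
  have hmid : Coh.IsCoh ((Scheme.Modules.pullback i).obj (Omega.sheaf (X ↘ Spec (CommRingCat.of k)))) :=
    Groth.L16.NegPow.isCoh_of_isFinLocFree fun x => by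
      obtain ⟨U, hx, ⟨e⟩⟩ := hΩ (i x)
      exact ⟨i ⁻¹ᵁ U, 2, hx, Groth.L29.LocFree.restrict_pullback i e⟩
  have hadd := Groth.L03.Euler.euler_add (k := k) hse
    (Groth.L18.Ample.isCoh_of_isInvertible (Groth.L18.Ample.isInvertible_pullback i hIinv)) hmid
    (Groth.L18.Ample.isCoh_of_isInvertible hΩC)
  have hsum : Curv2.deg k C ((Scheme.Modules.pullback i).obj (Omega.sheaf (X ↘ Spec (CommRingCat.of k)))) 2 =
      Curv2.deg k C ((Scheme.Modules.pullback i).obj (ClSub.idealMod i.ker)) 1 +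
        Curv2.deg k C (Omega.sheaf (C ↘ Spec (CommRingCat.of k))) 1 := by
    unfold Curv2.deg
    rw [hadd]
    show (Curv2.euler k C ((Scheme.Modules.pullback i).obj (ClSub.idealMod i.ker)) +
      Curv2.euler k C (Omega.sheaf (C ↘ Spec (CommRingCat.of k)))) - _ = _
    push_cast
    ring
  rw [hdet, hω] at hsum
  have hsumQ := congrArg (fun z : ℤ => (z : ℚ)) hsum
  simp only [Int.cast_add, Int.cast_sub, Int.cast_mul, Int.cast_natCast, Int.cast_ofNat] at hsumQ
  rw [hWd, hId] at hsumQ
  linarith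

end Groth.L03.SurfAdj
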