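import Groth.Agent.L14.Bertini.Proj
import Groth.Agent.L21.PlaneCurve.HypIdeal
import Groth.Agent.L21.PlaneCurve.Plane
import Groth.Agent.L21.Curve.NormalConnected
import Groth.Agent.L20.Infinitesimal.Flat
import Groth.Agent.L08.Cube.SmoothStalk
import Groth.Agent.L03.InterLen.Cartier
import Groth.Agent.L03.ConnH0
import Groth.Agent.L26.Weil.Axes
import Groth.Agent.L22.Big.SurfaceMain
import Groth.Agent.L03.SurfDual.Numeric
import Mathlib.RingTheory.KrullDimension.Regular

/-!
# A regular connected hyperplane section of a surface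
-/

set_option autoImplicit false
set_option backward.isDefEq.respectTransparency false
set_option linter.style.haveILetI false
set_option linter.unusedSectionVars false

universe u

open CategoryTheory CategoryTheory.Limits AlgebraicGeometry TopologicalSpace

noncomputable section

namespace Groth.L03.SurfAdj

open Groth.L22.Inter Groth.L22.Nef Groth.L22.Big
open Groth.L00.Tensor (tensorIso tensorComm tensorUnitLeft tensorUnitRight tensorAssoc)
open Groth.L18.Frame (IsFrame rs ro pull pull_rs pull_smul)
open Groth.L16.CohLinear (hmap overLin exact_hmap_hmap exact_hmap_delta exact_delta_hmap)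
open Groth.L21.RR (h)

variable (k : Type u) [Field k] {X : Scheme.{u}} [X.Over (Spec (CommRingCat.of k))]
  [IsProper (X ↘ Spec (CommRingCat.of k))] [IsIntegral X]

/-- An isomorphism gives a linear equivalence on cohomology. -/
def hhEquiv {M N : X.Modules} (e : M ≅ N) (i : ℕ) : Coh.HH X M i ≃ₗ[k] Coh.HH X N i :=
  LinearEquiv.ofLinear (overLin k (hmap e.hom i)) (overLin k (hmap e.inv i))
    (LinearMap.ext fun x => (Groth.L16.CohLinear.hmap_comp e.inv e.hom i x).symm.trans
      (by rw [e.inv_hom_id]; exact Groth.L16.CohLinear.hmap_id i x))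
    (LinearMap.ext fun x => (Groth.L16.CohLinear.hmap_comp e.hom e.inv i x).symm.trans
      (by rw [e.hom_inv_id]; exact Groth.L16.CohLinear.hmap_id i x))

/-- `L ⊗ O/I` is the restriction of `L`, cohomologically. -/
theorem nonempty_twistQuot_equiv (I : X.IdealSheafData) {L : X.Modules} (hL : PicF.IsInvertible L) (p : ℕ) :
    letI : I.subscheme.Over (Spec (CommRingCat.of k)) := ⟨I.subschemeι ≫ (X ↘ (Spec (CommRingCat.of k)))⟩
    Nonempty (Coh.HH X (CohB1.tensorMod L (ClSub.quotMod I)) p ≃ₗ[k]
      Coh.HH I.subscheme ((Scheme.Modules.pullback I.subschemeι).obj L) p) := by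
  letI : I.subscheme.Over (Spec (CommRingCat.of k)) := ⟨I.subschemeι ≫ (X ↘ (Spec (CommRingCat.of k)))⟩
  haveI : X.IsSeparated := ⟨by rw [← terminal.comp_from (X ↘ Spec (CommRingCat.of k))]; infer_instance⟩
  haveI : Coh.IsQCoh ((Scheme.Modules.pullback I.subschemeι).obj L) :=
    Groth.L21.Extend.isQCoh_of_isInvertible (Groth.L18.Ample.isInvertible_pullback _ hL)
  haveI := Groth.L17.ProjFormula.isIso_θ I.subschemeι L (Coh.structureModule I.subscheme)
    (Groth.L16.Existence.isFinLocFree_of_isInvertible hL)
  let e : CohB1.tensorMod L (ClSub.quotMod I) ≅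
      (Scheme.Modules.pushforward I.subschemeι).obj ((Scheme.Modules.pullback I.subschemeι).obj L) :=
    asIso (Groth.L17.ClosedPush.θ I.subschemeι (Coh.structureModule I.subscheme) L) ≪≫
      (Scheme.Modules.pushforward I.subschemeι).mapIso (tensorUnitRight _)
  obtain ⟨g⟩ := Groth.L21.PlaneCurve.nonempty_push_equiv (k := k) I.subschemeι rfl
    ((Scheme.Modules.pullback I.subschemeι).obj L) p
  exact ⟨(hhEquiv k e p).trans g.symm⟩

variable [IsAlgClosed k]

/-- A regular connected hyperplane section. -/
theorem exists_section (hdim : topologicalKrullDim X = (2 : ℕ))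
    (hreg : ∀ x : X, IsRegularLocalRing (X.presheaf.stalk x))
    {N : ℕ} (ι : X ⟶ CohB1.ProjSpace N k) [IsClosedImmersion ι]
    (hι : ι ≫ CohB1.ProjSpace.toSpec N k = X ↘ Spec (CommRingCat.of k)) {H' : X.Modules}
    (hH' : Nonempty (CohB1.tensorMod ((Scheme.Modules.pullback ι).obj (Twist.twistProjSpace N k 1)) H' ≅
      Coh.structureModule X))
    (hvan : Subsingleton (Coh.HH X H' 1)) :
    ∃ J : X.IdealSheafData, IsIntegral J.subscheme ∧ topologicalKrullDim J.subscheme = (1 : ℕ) ∧
      (∀ c : J.subscheme, IsRegularLocalRing (J.subscheme.presheaf.stalk c)) ∧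
      Nonempty (ClSub.idealMod J ≅ H') := by
  haveI := Groth.L21.RR.isNoetherian_of_proper (X := X) k
  haveI : X.IsSeparated := ⟨by rw [← terminal.comp_from (X ↘ Spec (CommRingCat.of k))]; infer_instance⟩
  set L := (Scheme.Modules.pullback ι).obj (Twist.twistProjSpace N k 1) with hLdef
  have hamp : CohB1.IsAmple L := (proj_facts k (hdim.trans Nat.cast_ofNat) ι hι).2
  have hL : PicF.IsInvertible L := hamp.1
  obtain ⟨e'⟩ := hH'
  obtain ⟨g, hg, hgood⟩ := Groth.L14.Bertini.bertini ι hreg
  obtain ⟨a, ha⟩ : ∃ a : Fin (N + 1) → k, MvPolynomial.eval a g ≠ 0 := by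
    by_contra hall
    push Not at hall
    exact hg (MvPolynomial.funext fun x => (hall x).trans (map_zero _).symm)
  let G : LefPen.Form N k 1 := ⟨∑ i, MvPolynomial.C (a i) * MvPolynomial.X i,
    MvPolynomial.IsHomogeneous.sum _ _ _ fun i _ => (MvPolynomial.isHomogeneous_X k i).C_mul _⟩
  obtain ⟨⟨x₀, hx₀⟩, hbert⟩ := hgood G (by
    refine fun h0 => ha (h0 ▸ congrArg (fun z => MvPolynomial.eval z g) (funext fun i => ?_))
    show a i = MvPolynomial.coeff (Finsupp.single i 1) (∑ l, MvPolynomial.C (a l) * MvPolynomial.X l)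
    rw [MvPolynomial.coeff_sum, Finset.sum_eq_single i]
    · simp
    · intro b _ hb
      rw [MvPolynomial.coeff_C_mul, MvPolynomial.coeff_X', if_neg fun h => hb (Finsupp.single_left_injective one_ne_zero h),
        mul_zero]
    · simp)
  let σ : Γ(L, ⊤) := pull ι (Twist.twistProjSpace N k 1) ⊤
    (Groth.L18.GenLoc.secOf (Groth.L21.PlaneCurve.formHom G))
  let s : Coh.structureModule X ⟶ L := Groth.L16.homOfSection L σ
  have hsec : Groth.L18.GenLoc.secOf s = σ := Groth.L18.GenLoc.secOf_homOfSection σ
  let V := fun j : Fin (N + 1) => ι ⁻¹ᵁ LefPen.chart N k j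
  let e := fun j => pull ι (Twist.twistProjSpace N k 1) (LefPen.chart N k j) (Groth.L21.PlaneCurve.chartFrame 1 j)
  have he : ∀ j, IsFrame L (V j) (e j) := fun j =>
    (Groth.L21.PlaneCurve.isFrame_chartFrame (k := k) 1 j).pullback ι
  let c := fun j => ι.app (LefPen.chart N k j) (LefPen.dehom G j)
  have hce : ∀ j, c j • e j = rs L le_top (Groth.L18.GenLoc.secOf s) := fun j => by
    rw [hsec]
    refine (pull_smul ι (Twist.twistProjSpace N k 1) (LefPen.dehom G j) _).symm.trans ?_
    rw [Groth.L21.PlaneCurve.dehom_smul_chartFrame]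
    exact (pull_rs ι (Twist.twistProjSpace N k 1) _ _).symm
  have hgerm : ∀ (x : X) (j : Fin (N + 1))
      (hj : (MvPolynomial.X j : MvPolynomial (Fin (N + 1)) k) ∉ (ι.base x).asHomogeneousIdeal),
      X.presheaf.germ (V j) x (Groth.L14.Bertini.mem_chart ι j x hj) (c j) =
        Groth.L14.Bertini.germOf ι j x hj G := by
    intro x j hj
    refine Eq.trans (congrArg _ ?_) (Groth.L14.Bertini.germ_secHom ι j x hj G)
    rw [Groth.L14.Bertini.toAway_lin]
    refine congrArg (fun z => ι.app (LefPen.chart N k j)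
      ((Proj.awayToSection (CohB1.polyGrading N k) (MvPolynomial.X j)).hom z)) ?_
    refine HomogeneousLocalization.val_injective _ ?_
    simp [HomogeneousLocalization.Away.mk]
  have hchart : ∀ x : X, ∃ j, (MvPolynomial.X j : MvPolynomial (Fin (N + 1)) k) ∉ (ι.base x).asHomogeneousIdeal :=
    fun x => (Groth.L21.PlaneCurve.exists_mem_chart (ι.base x)).imp fun j hj => (Proj.mem_basicOpen _ _ _).1 hj
  have hne : s ≠ 0 := by
    intro h0
    obtain ⟨j, hj⟩ := hchart x₀
    have hu : IsUnit (Groth.L14.Bertini.germOf ι j x₀ hj G) := by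
      refine IsUnit.map (ι.stalkMap x₀).hom (IsUnit.map (Proj.stalkIso' (CohB1.polyGrading N k) (ι.base x₀)).symm ?_)
      rw [← HomogeneousLocalization.isUnit_iff_isUnit_val, HomogeneousLocalization.val_mk, Localization.mk_eq_mk']
      haveI : (ι.base x₀).asHomogeneousIdeal.toIdeal.IsPrime := (ι.base x₀).isPrime
      exact (IsLocalization.AtPrime.isUnit_mk'_iff
        (S := Localization.AtPrime (ι.base x₀).asHomogeneousIdeal.toIdeal)
        (ι.base x₀).asHomogeneousIdeal.toIdeal _ _).2 hx₀
    have hc0 : c j = 0 := (he j).inj le_rfl (by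
      rw [Groth.L18.Frame.rs_self, hce j, h0]
      simp [Groth.L18.GenLoc.secOf])
    rw [← hgerm x₀ j hj, hc0, map_zero] at hu
    exact not_isUnit_zero hu
  haveI : Mono s := Groth.L21.RR.mono_of_ne_zero hL hne
  haveI : Coh.IsQCoh L := Groth.L21.Extend.isQCoh_of_isInvertible hL
  let J : X.IdealSheafData :=
    { ideal := fun U => Groth.L22.ZeroScheme.idealOn s U.1
      map_ideal_basicOpen := fun U f =>
        Groth.L22.ZeroScheme.map_idealOn (Groth.L18.Ample.isFT_of_isInvertible hL) s U.2 f }
  have hVaff : ∀ j, IsAffineOpen (V j) := fun j => Groth.L14.Bertini.affine ι j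
  have hJ : ∀ j, J.ideal ⟨V j, hVaff j⟩ = Ideal.span {c j} := by
    intro j
    ext b
    show b ∈ Groth.L22.ZeroScheme.idealOn s (V j) ↔ _
    rw [Groth.L22.ZeroScheme.mem_idealOn_iff, Ideal.mem_span_singleton']
    constructor
    · intro hb
      obtain ⟨d, hd⟩ := hb (e j)
      refine ⟨d, (he j).inj le_rfl ?_⟩
      rw [Groth.L18.Frame.rs_self, hd, mul_smul, hce j]
    · rintro ⟨d, rfl⟩ m
      obtain ⟨r, hr⟩ := (he j).exists_coeff le_rfl m
      rw [Groth.L18.Frame.rs_self] at hr
      exact ⟨d * r, by rw [← hr, ← hce j, smul_smul, smul_smul]; congr 1; ring⟩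
  obtain ⟨eJ⟩ := Groth.L21.PlaneCurve.nonempty_iso_of_range J hL s fun x => by
    obtain ⟨j, hj⟩ := hchart x
    exact ⟨V j, hVaff j, Groth.L14.Bertini.mem_chart ι j x hj, e j, c j, he j, hce j, hJ j⟩
  let eI : ClSub.idealMod J ≅ H' := (tensorUnitLeft _).symm ≪≫ tensorIso (e'.symm ≪≫ tensorComm L H') (Iso.refl _) ≪≫
    tensorAssoc _ _ _ ≪≫ tensorIso (Iso.refl _) eJ ≪≫ tensorUnitRight _
  -- the subscheme
  letI oC : J.subscheme.Over (Spec (CommRingCat.of k)) := ⟨J.subschemeι ≫ (X ↘ (Spec (CommRingCat.of k)))⟩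
  haveI : IsProper (J.subscheme ↘ Spec (CommRingCat.of k)) :=
    inferInstanceAs (IsProper (J.subschemeι ≫ (X ↘ Spec (CommRingCat.of k))))
  haveI := Groth.L21.RR.isNoetherian_of_proper (X := J.subscheme) k
  -- local rings at closed points
  have hloc : ∀ z : J.subscheme, IsClosed ({z} : Set J.subscheme) →
      IsRegularLocalRing (J.subscheme.presheaf.stalk z) ∧
        ringKrullDim (J.subscheme.presheaf.stalk z) + 1 = (2 : ℕ) := by
    intro z hz
    set x := J.subschemeι z with hxdef
    have hx : IsClosed ({x} : Set X) := by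
      rw [hxdef, ← Set.image_singleton]
      exact J.subschemeι.isClosedEmbedding.isClosedMap _ hz
    obtain ⟨j, hj⟩ := hchart x
    have hker : RingHom.ker (J.subschemeι.stalkMap z).hom = Ideal.span {Groth.L14.Bertini.germOf ι j x hj G} := by
      rw [Groth.L20.Infinitesimal.ker_stalkMap J.subschemeι z, Scheme.IdealSheafData.ker_subschemeι,
        Groth.L20.SeeNormal.sI_eq J ⟨V j, hVaff j⟩ (Groth.L14.Bertini.mem_chart ι j x hj), hJ j, Ideal.map_span,
        Set.image_singleton]
      exact congrArg (fun q => Ideal.span {q}) (hgerm x j hj)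
    have hsurj := J.subschemeι.stalkMap_surjective z
    let ee := (Ideal.quotEquivOfEq hker.symm).trans (RingHom.quotientKerEquivOfSurjective hsurj)
    have hmem : Groth.L14.Bertini.germOf ι j x hj G ∈ IsLocalRing.maximalIdeal (X.presheaf.stalk x) := by
      rw [IsLocalRing.mem_maximalIdeal, mem_nonunits_iff]
      intro hu
      have h1 : J.subschemeι.stalkMap z (Groth.L14.Bertini.germOf ι j x hj G) = 0 :=
        RingHom.mem_ker.1 (hker.ge (Ideal.mem_span_singleton_self _))
      exact not_isUnit_zero (h1 ▸ hu.map (J.subschemeι.stalkMap z).hom)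
    have hG : (G : MvPolynomial (Fin (N + 1)) k) ∈ (ι.base x).asHomogeneousIdeal := by
      by_contra hG
      refine hmem (IsUnit.map (ι.stalkMap x).hom (IsUnit.map (Proj.stalkIso' (CohB1.polyGrading N k) (ι.base x)).symm ?_))
      rw [← HomogeneousLocalization.isUnit_iff_isUnit_val, HomogeneousLocalization.val_mk, Localization.mk_eq_mk']
      haveI : (ι.base x).asHomogeneousIdeal.toIdeal.IsPrime := (ι.base x).isPrime
      exact (IsLocalization.AtPrime.isUnit_mk'_iff
        (S := Localization.AtPrime (ι.base x).asHomogeneousIdeal.toIdeal)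
        (ι.base x).asHomogeneousIdeal.toIdeal _ _).2 hG
    haveI := hbert x hx hG j hj
    haveI := hreg x
    haveI := Groth.L01.isDomain_of_regular (R := X.presheaf.stalk x)
    have hne0 : Groth.L14.Bertini.germOf ι j x hj G ≠ 0 := by
      rw [← hgerm x j hj]
      intro h0
      have hc : c j = 0 := germ_injective_of_isIntegral X x _ (h0.trans (map_zero _).symm)
      refine hne ?_
      refine Groth.L21.RR.eq_zero_of_st_one s fun y => ?_
      have hη : genericPoint X ∈ V j :=
        ((genericPoint_spec X).specializes trivial).mem_open (V j).2 (Groth.L14.Bertini.mem_chart ι j x hj)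
      by_contra hy
      refine Groth.L21.RR.st_one_ne_zero (φ := s) hL (fun h => hy (by rw [h, Groth.L21.RR.st, Functor.map_zero]; rfl))
        (genericPoint X) ?_
      rw [Groth.L21.RR.st_one s (genericPoint X) hη]
      have h5 := hce j
      rw [hc, zero_smul] at h5
      exact (congrArg _ h5.symm).trans (map_zero _)
    have hdx : ringKrullDim (X.presheaf.stalk x) = (2 : ℕ) :=
      Groth.L03.InterLen.ringKrullDim_stalk_closed k (fun Z hZ => by
        rw [irreducibleComponents_eq_singleton, Set.mem_singleton_iff] at hZ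
        subst hZ
        rw [IsHomeomorph.topologicalKrullDim_eq _ (Homeomorph.Set.univ X).isHomeomorph]
        exact hdim) hx
    refine ⟨IsRegularLocalRing.of_ringEquiv (R := X.presheaf.stalk x ⧸ Ideal.span {Groth.L14.Bertini.germOf ι j x hj G}) ee, ?_⟩
    rw [← ringKrullDim_eq_of_ringEquiv ee, ← hdx]
    exact ringKrullDim_quotient_span_singleton_succ_eq_ringKrullDim
      (isRegular_iff_ne_zero.2 hne0).isSMulRegular hmem
  haveI : Smooth (J.subscheme ↘ Spec (CommRingCat.of k)) :=
    Groth.L26.Weil.smooth_of_regular_closed _ fun z hz => (hloc z hz).1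
  have hregC : ∀ z : J.subscheme, IsRegularLocalRing (J.subscheme.presheaf.stalk z) := fun z =>
    Groth.L08.Cube.isRegularLocalRing_of_smooth (J.subscheme ↘ Spec (CommRingCat.of k)) z
  -- cohomology
  have hse := Groth.L21.RR.shortExact_idealSeq J
  haveI : Subsingleton (Coh.HH X (ClSub.idealMod J) 1) := Groth.L22.EnrSev.subsingleton_of_iso eI.symm 1 hvan
  have hsur : Function.Surjective (overLin k (hmap (Groth.L21.RR.idealSeq J).g 0)) := fun y =>
    (exact_hmap_delta hse 0 y).1 (Subsingleton.elim (α := Coh.HH X (ClSub.idealMod J) 1) _ _)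
  have hO := Groth.L22.CurveDeg.h0_structure_eq_one k (X := X)
  obtain ⟨q⟩ := nonempty_twistQuot_equiv k J (Groth.L18.Ample.isInvertible_structureModule X) 0
  obtain ⟨u⟩ : Nonempty ((Scheme.Modules.pullback J.subschemeι).obj (Coh.structureModule X) ≅
      Coh.structureModule J.subscheme) := ⟨Groth.L29.LocFree.pullbackUnitIso J.subschemeι⟩
  haveI : Module.Finite k (Coh.HH X (Coh.structureModule X) 0) :=
    Groth.L16.ProperFinite.finite_HH k (Groth.L16.CohClosedPush.isCoh_structure) 0
  have hle : h k 0 (Coh.structureModule J.subscheme) ≤ 1 := by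
    rw [← Groth.L21.RR.h_congr k u 0]
    show Module.finrank k _ ≤ 1
    rw [← q.finrank_eq, (hhEquiv k (tensorUnitLeft (ClSub.quotMod J)) 0).finrank_eq]
    haveI : Module.Finite k (Coh.HH X (Groth.L21.RR.idealSeq J).X₂ 0) := ‹Module.Finite k (Coh.HH X (Coh.structureModule X) 0)›
    exact (LinearMap.finrank_le_finrank_of_surjective (f := overLin k (hmap (Groth.L21.RR.idealSeq J).g 0)) hsur).trans hO.le
  haveI hnonempty : Nonempty J.subscheme := by
    by_contra hempty
    have hiso : IsIso s := by
      haveI : Epi s := (Groth.L21.Mod.epi_iff_stalk_surjective s).2 fun x => by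
        obtain ⟨j, hj⟩ := hchart x
        have hxV := Groth.L14.Bertini.mem_chart ι j x hj
        suffices hu : IsUnit (X.presheaf.germ (V j) x hxV (c j)) by
          intro v
          obtain ⟨b, hb⟩ := (Groth.L21.RR.bijective_germ_frame (he j) hxV).2 v
          refine ⟨(b * ↑hu.unit⁻¹) • Groth.L21.RR.one X x, ?_⟩
          show Groth.L21.RR.st s x _ = v
          rw [map_smul, Groth.L21.RR.st_one s x hxV]
          show _ • L.presheaf.germ (V j) x hxV (rs L le_top (Groth.L18.GenLoc.secOf s)) = v
          rw [← hce j, Groth.L20.ModStalk.germ_smul, smul_smul, mul_assoc, IsUnit.val_inv_mul, mul_one]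
          exact hb
        by_contra hu
        have hxJ : x ∈ (J.support : Set X) := by
          rw [SetLike.mem_coe, Scheme.IdealSheafData.mem_support_iff_of_mem (U := ⟨V j, hVaff j⟩) (Groth.L14.Bertini.mem_chart ι j x hj),
            Scheme.mem_zeroLocus_iff]
          intro f hf
          rw [hJ j, SetLike.mem_coe, Ideal.mem_span_singleton'] at hf
          obtain ⟨d, rfl⟩ := hf
          rw [Scheme.mem_basicOpen X _ x (Groth.L14.Bertini.mem_chart ι j x hj), map_mul]
          exact fun h => hu (isUnit_of_mul_isUnit_right h)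
        rw [← J.range_subschemeι] at hxJ
        exact hempty ⟨hxJ.choose⟩
      exact isIso_of_mono_of_epi s
    have hpos := ii_ample_pos k hdim.le hdim hamp
    have h0 : ii k L L = 0 := by
      have h1 : ii k (Coh.structureModule X) L = 0 := by
        have h2 := ii_tensor k hdim.le (Groth.L18.Ample.isInvertible_structureModule X)
          (Groth.L18.Ample.isInvertible_structureModule X) hL
        rw [ii_congr k (tensorUnitLeft (Coh.structureModule X)) L] at h2
        linarith
      rw [← ii_congr k (asIso s) L]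
      exact h1
    linarith
  haveI : ConnectedSpace J.subscheme := by
    refine Groth.L21.PlaneCurve.connectedSpace_of_h0_eq_one (k := k) (le_antisymm hle ?_)
    haveI : Module.Finite k (Coh.HH J.subscheme (Coh.structureModule J.subscheme) 0) :=
      Groth.L16.ProperFinite.finite_HH k (Groth.L16.CohClosedPush.isCoh_structure) 0
    haveI : Nontrivial (Coh.HH J.subscheme (Coh.structureModule J.subscheme) 0) := by
      haveI : Nontrivial Γ(J.subscheme, ⊤) := by
        obtain ⟨z⟩ := hnonempty
        exact (J.subscheme.presheaf.germ ⊤ z trivial).hom.domain_nontrivial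
      haveI : Nontrivial Γ(Coh.structureModule J.subscheme, ⊤) := inferInstanceAs (Nontrivial Γ(J.subscheme, ⊤))
      exact (Groth.L21.RR.e0 (Coh.structureModule J.subscheme)).toEquiv.nontrivial
    exact Module.finrank_pos
  haveI hint : IsIntegral J.subscheme := Groth.L21.NormalTotal.isIntegral_of_connected fun z => by
    haveI := hregC z
    exact Groth.L01.isDomain_of_regular _
  refine ⟨J, hint, le_antisymm ?_ ?_, hregC, ⟨eI⟩⟩
  · rw [show topologicalKrullDim J.subscheme = topologicalKrullDim (J.support : Set X) from ?_]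
    · refine dim_le_of_generic_notMem J.support.isClosed (fun hη => ?_) hdim.le
      obtain ⟨j, hj⟩ := hchart (genericPoint X)
      have hηV := Groth.L14.Bertini.mem_chart ι j (genericPoint X) hj
      rw [SetLike.mem_coe, Scheme.IdealSheafData.mem_support_iff_of_mem (U := ⟨V j, hVaff j⟩) hηV,
        Scheme.mem_zeroLocus_iff] at hη
      have h1 := hη (c j) (by rw [hJ j]; exact Ideal.mem_span_singleton_self _)
      rw [Scheme.mem_basicOpen X _ _ hηV] at h1
      have hc0 : X.presheaf.germ (V j) (genericPoint X) hηV (c j) = 0 := by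
        by_contra h
        exact h1 ((Field.toIsField X.functionField).mul_inv_cancel h |>.elim fun w hw => IsUnit.of_mul_eq_one w hw)
      refine Groth.L21.RR.st_one_ne_zero hL hne (genericPoint X) ?_
      rw [Groth.L21.RR.st_one s (genericPoint X) hηV]
      show L.presheaf.germ (V j) (genericPoint X) hηV (rs L le_top (Groth.L18.GenLoc.secOf s)) = 0
      rw [← hce j, Groth.L20.ModStalk.germ_smul, hc0, zero_smul]
    · rw [← J.range_subschemeι]
      exact IsHomeomorph.topologicalKrullDim_eq _ J.subschemeι.isClosedEmbedding.isEmbedding.toHomeomorph.isHomeomorph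
  · obtain ⟨z, hz⟩ := IsClosed.exists_closed_singleton (isClosed_univ (X := J.subscheme)) Set.univ_nonempty
    have h1 := (hloc z hz.2).2
    refine le_trans ?_ (Groth.L21.SmoothDescent.ringKrullDim_stalk_le z)
    have h2 : ringKrullDim (J.subscheme.presheaf.stalk z) + 1 = ((1 : ℕ) : WithBot ℕ∞) + 1 := by
      rw [h1]; rfl
    revert h2
    generalize ringKrullDim (J.subscheme.presheaf.stalk z) = d
    intro h2
    induction d with
    | bot => rw [WithBot.bot_add] at h2; exact absurd h2.symm (WithBot.coe_ne_bot (a := (1 + 1 : ℕ∞)))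
    | coe d =>
      induction d with
      | top =>
        have h3 : (⊤ : ℕ∞) + 1 = 1 + 1 := WithBot.coe_injective h2
        rw [top_add] at h3
        exact absurd h3.symm (WithTop.add_ne_top.2 ⟨by simp, by simp⟩)
      | coe d =>
        have h3 : d + 1 = 1 + 1 := ENat.coe_inj.mp (WithBot.coe_injective (show (((d + 1 : ℕ) : ℕ∞) : WithBot ℕ∞) = (((1 + 1 : ℕ) : ℕ∞) : WithBot ℕ∞) from h2))
        exact le_of_eq (by exact_mod_cast (Nat.add_right_cancel h3).symm)

end Groth.L03.SurfAdj
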