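import Groth.Agent.L03.SurfAdj.Basic
import Groth.Agent.L03.SurfAdj.DetIso
import Groth.Agent.L03.SurfAdj.Section
import Groth.Agent.L03.SurfAdj.Embed
import Groth.Agent.L21.Duality.Canonical
import Groth.Agent.L03.SurfAmple.Exists
import Groth.Agent.L22.CurveDeg.NonSpecial

/-!
# The canonical module of a surface is the determinant of the differentials
-/

set_option autoImplicit false
set_option backward.isDefEq.respectTransparency false
set_option linter.style.haveILetI false
set_option linter.unusedSectionVars false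

universe u

open CategoryTheory CategoryTheory.Limits AlgebraicGeometry

noncomputable section

namespace Groth.L03.SurfAdj

open Groth.L22.Inter Groth.L22.Nef Groth.L22.Big Groth.L03.Euler Groth.L03.SurfDual
open Groth.L00.Tensor (tensorIso tensorComm tensorUnitLeft tensorUnitRight tensorAssoc)
open Groth.L16.CohLinear (hmap overLin delta exact_hmap_hmap exact_hmap_delta exact_delta_hmap)
open Groth.L21.RR (h)

variable (k : Type u) [Field k] [IsAlgClosed k] {X : Scheme.{u}} [X.Over (Spec (CommRingCat.of k))]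
  [IsProper (X ↘ Spec (CommRingCat.of k))] [IsIntegral X]

/-- The determinant of the differentials is canonical. -/
theorem exists_canonical_iso (hdim : topologicalKrullDim X = (2 : ℕ))
    (hreg : ∀ x : X, IsRegularLocalRing (X.presheaf.stalk x))
    {W : X.Modules} (hW : ExtPow.IsExtPow 2 (Omega.sheaf (X ↘ Spec (CommRingCat.of k))) W)
    {ω : X.Modules} (hω : PicF.IsInvertible ω)
    (hflip : ∀ L L' : X.Modules, PicF.IsInvertible L → Nonempty (CohB1.tensorMod L L' ≅ Coh.structureModule X) →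
      ∀ i : ℕ, i ≤ 2 → Module.finrank k (Coh.HH X (CohB1.tensorMod ω L') i) =
        Module.finrank k (Coh.HH X L (2 - i)))
    (hflip0 : ∀ i : ℕ, i ≤ 2 → Module.finrank k (Coh.HH X ω i) =
      Module.finrank k (Coh.HH X (Coh.structureModule X) (2 - i)))
    (hRR : ∀ L : X.Modules, PicF.IsInvertible L → 2 * (Curv2.euler k X L : ℚ) =
      ii k L L - ii k L ω + 2 * (Curv2.euler k X (Coh.structureModule X) : ℚ)) :
    Nonempty (ω ≅ W) := by
  haveI := Groth.L21.RR.isNoetherian_of_proper (X := X) k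
  haveI : Smooth (X ↘ Spec (CommRingCat.of k)) :=
    Groth.L26.Weil.smooth_of_regular_closed _ fun x _ => hreg x
  haveI : SmoothOfRelativeDimension 2 (X ↘ Spec (CommRingCat.of k)) :=
    Groth.L16.SmoothSection.smoothOfRelativeDimension_dim _ 2 hdim
  have hΩ := Groth.L02.Canon.isFinLocFreeOfRank_omega (f := X ↘ Spec (CommRingCat.of k)) 2
  have hWinv : PicF.IsInvertible W := by
    obtain ⟨ψ, hψ⟩ := id hW
    exact Groth.L22.CurveDeg.Det.isInvertible_of_extPow ψ hψ hΩ
  obtain ⟨H, hH⟩ := Groth.L03.SurfAmple.exists_ample k X hdim hreg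
  obtain ⟨d₁, hd₁⟩ := Groth.L16.Existence.exists_vanishing_of_isAmple (A := k) hH
    (Groth.L18.Ample.isCoh_of_isInvertible hω)
  obtain ⟨d₂, hd₂⟩ := Groth.L16.Existence.exists_vanishing_of_isAmple (A := k) hH
    (Groth.L18.Ample.isCoh_of_isInvertible hWinv)
  obtain ⟨d₀, hd₀⟩ := exists_embedding k hH
  let m := d₀ + d₁ + d₂ + 1
  obtain ⟨N, ι, hι, hιk, ⟨eι⟩⟩ := hd₀ m (by omega)
  haveI := hι
  set M := CohB1.tensorPow H m with hMdef
  have hM : PicF.IsInvertible M := Groth.L18.Ample.isInvertible_tensorPow hH.1 m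
  obtain ⟨M', hM', ⟨eM⟩⟩ := Groth.L08.Cube.exists_inverse hM
  have hvM : ∀ A : X.Modules, PicF.IsInvertible A → (∀ q, 0 < q → Subsingleton (Coh.HH X (CohB1.tensorMod M A) q)) →
      ∀ q, 0 < q → Module.finrank k (Coh.HH X (CohB1.tensorMod A M) q) = 0 := fun A _ h q hq => by
    haveI := Groth.L22.EnrSev.subsingleton_of_iso (tensorComm M A) q (h q hq)
    exact Module.finrank_zero_of_subsingleton
  have hωM : ∀ q, 0 < q → Module.finrank k (Coh.HH X (CohB1.tensorMod ω M) q) = 0 :=
    hvM ω hω fun q hq => hd₁ m (by omega) q hq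
  have hWM : ∀ q, 0 < q → Module.finrank k (Coh.HH X (CohB1.tensorMod W M) q) = 0 :=
    hvM W hWinv fun q hq => hd₂ m (by omega) q hq
  let eM' : CohB1.tensorMod M' M ≅ Coh.structureModule X := tensorComm _ _ ≪≫ eM
  have hfin : ∀ {A : X.Modules}, PicF.IsInvertible A → ∀ q, Module.finrank k (Coh.HH X A q) = 0 →
      Subsingleton (Coh.HH X A q) := fun {A} hA q h => by
    haveI := Groth.L16.ProperFinite.finite_HH k (Groth.L18.Ample.isCoh_of_isInvertible hA) q
    exact Module.finrank_zero_iff.1 h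
  have hvan : Subsingleton (Coh.HH X M' 1) := by
    refine hfin hM' 1 ?_
    rw [← hωM 1 one_pos]
    exact (hflip M' M hM' ⟨eM'⟩ 1 one_le_two).symm
  have hHH := ii_ample_pos k hdim.le hdim hH
  have hM0 : h k 0 M' = 0 := by
    by_contra hne
    haveI : Nontrivial (Coh.HH X M' 0) := Module.nontrivial_of_finrank_pos (Nat.pos_of_ne_zero hne)
    obtain ⟨s, hs⟩ := Groth.L21.RR.exists_hom_ne_zero (L := M')
    have h1 : 0 ≤ ii k M' H := by
      rcases ii_effective k hdim.le hM' hH s hs with h | h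
      · exact h.le
      · exact (h H hH.1).ge
    rw [Groth.L03.SurfDual.ii_inv k hdim.le hM hM' eM H hH.1, hMdef, ii_pow k hdim.le hH.1 hH.1] at h1
    have : (0 : ℚ) < (m : ℚ) * ii k H H := mul_pos (by exact_mod_cast Nat.succ_pos _) hHH
    linarith
  obtain ⟨J, hJint, hJdim, hJreg, ⟨eJ⟩⟩ := exists_section k hdim hreg ι hιk (H' := M')
    ⟨tensorIso eι (Iso.refl _) ≪≫ eM⟩ hvan
  -- the curve
  haveI := hJint
  let C := J.subscheme
  let i := J.subschemeι
  letI : C.Over (Spec (CommRingCat.of k)) := ⟨i ≫ (X ↘ (Spec (CommRingCat.of k)))⟩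
  haveI : IsProper (C ↘ Spec (CommRingCat.of k)) :=
    inferInstanceAs (IsProper (i ≫ (X ↘ Spec (CommRingCat.of k))))
  haveI := Groth.L21.RR.isNoetherian_of_proper (X := C) k
  haveI : Smooth (C ↘ Spec (CommRingCat.of k)) :=
    Groth.L26.Weil.smooth_of_regular_closed _ fun x _ => hJreg x
  have hC1 : topologicalKrullDim C = 1 := hJdim.trans Nat.cast_one
  have hker : i.ker = J := Scheme.IdealSheafData.ker_subschemeι J
  have eI : ClSub.idealMod i.ker ≅ M' := eqToIso (congrArg ClSub.idealMod hker) ≪≫ eJ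
  let P := Scheme.Modules.pullback i
  obtain ⟨φ, c, w, hse⟩ := exists_seq k i hdim hreg hJdim hJreg
  have hIinv : PicF.IsInvertible (ClSub.idealMod i.ker) :=
    Groth.L18.Ample.isInvertible_of_iso eI.symm hM'
  have hΩC : PicF.IsInvertible (Omega.sheaf (C ↘ Spec (CommRingCat.of k))) :=
    Groth.L21.Duality.isInvertible_omega (k := k) hC1
  obtain ⟨edet⟩ := nonempty_det_iso i hΩ hW (Groth.L18.Ample.isInvertible_pullback i hIinv) hΩC φ c w hse
  let eW : P.obj W ≅ CohB1.tensorMod (P.obj M') (Omega.sheaf (C ↘ Spec (CommRingCat.of k))) :=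
    edet ≪≫ tensorIso (P.mapIso eI) (Iso.refl _)
  let eO : P.obj (Coh.structureModule X) ≅ Coh.structureModule C := Groth.L29.LocFree.pullbackUnitIso i
  let eMC : CohB1.tensorMod (P.obj M) (P.obj M') ≅ Coh.structureModule C :=
    Groth.L29.DC.PullTensor.pullTensor i M M' ≪≫ P.mapIso eM ≪≫ eO
  let eΩ : Omega.sheaf (C ↘ Spec (CommRingCat.of k)) ≅ CohB1.tensorMod (P.obj M) (P.obj W) :=
    (tensorUnitLeft _).symm ≪≫ tensorIso eMC.symm (Iso.refl _) ≪≫ tensorAssoc _ _ _ ≪≫
      tensorIso (Iso.refl _) eW.symm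
  -- the restriction of ω(C)
  have hωM' := Groth.L18.GenLoc.isInvertible_tensor hω hM
  have hT := Groth.L21.RR.shortExact_tw J hωM'
  let eL : CohB1.tensorMod (CohB1.tensorMod ω M) (ClSub.idealMod J) ≅ ω :=
    tensorIso (Iso.refl _) eJ ≪≫ tensorAssoc _ _ _ ≪≫ tensorIso (Iso.refl _) eM ≪≫ tensorUnitRight _
  have h1Q : Module.finrank k (Coh.HH X (CohB1.tensorMod (CohB1.tensorMod ω M) (ClSub.quotMod J)) 1) =
      Module.finrank k (Coh.HH X (CohB1.tensorMod (CohB1.tensorMod ω M) (ClSub.idealMod J)) 2) := by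
    have s1 : Subsingleton (Coh.HH X (CohB1.tensorMod ω M) 1) := hfin hωM' 1 (hωM 1 one_pos)
    have s2 : Subsingleton (Coh.HH X (CohB1.tensorMod ω M) 2) := hfin hωM' 2 (hωM 2 two_pos)
    refine LinearEquiv.finrank_eq (LinearEquiv.ofBijective (overLin k (delta hT 1)) ⟨?_, fun y => ?_⟩)
    · refine (injective_iff_map_eq_zero _).2 fun y hy => ?_
      obtain ⟨z, rfl⟩ := (exact_hmap_delta hT 1 y).1 hy
      rw [@Subsingleton.elim _ s1 z 0]
      exact map_zero _
    · exact (exact_delta_hmap hT 1 y).1 (@Subsingleton.elim _ s2 _ _)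
  have hO1 := Groth.L22.CurveDeg.h0_structure_eq_one k (X := X)
  have h1J : h k 1 (P.obj (CohB1.tensorMod ω M)) = 1 := by
    obtain ⟨q⟩ := nonempty_twistQuot_equiv k J hωM' 1
    refine q.finrank_eq.symm.trans (h1Q.trans ?_)
    rw [finrank_HH_of_iso eL, hflip0 2 le_rfl]
    exact hO1
  have hPωM : PicF.IsInvertible (P.obj (CohB1.tensorMod ω M)) := Groth.L18.Ample.isInvertible_pullback i hωM'
  obtain ⟨N₀, hN₀, ⟨eN⟩, hN0, -⟩ := Groth.L21.Duality.exists_dual (k := k) hC1 hPωM
  -- degree bookkeeping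
  obtain ⟨hkinv, -⟩ := Groth.L03.SurfNum.CurveDegree.invertible_ker k i hdim hreg hJdim
  have hsame : ii k (ClSub.idealMod i.ker) W = ii k (ClSub.idealMod i.ker) ω := by
    have hadj := adjunction k i hdim hreg hJdim hJreg hW
    have hr := hRR _ hkinv
    have hses := euler_add (k := k) (Groth.L21.RR.shortExact_idealSeq i.ker)
      (Groth.L18.Ample.isCoh_of_isInvertible hkinv) Groth.L16.CohClosedPush.isCoh_structure
      (Groth.L21.RR.isCoh_quotMod _)
    change Curv2.euler k X (Coh.structureModule X) =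
      Curv2.euler k X (ClSub.idealMod i.ker) + Curv2.euler k X (ClSub.quotMod i.ker) at hses
    have hQ : Curv2.euler k X (ClSub.quotMod i.ker) = Curv2.euler k C (Coh.structureModule C) := by
      rw [hker]
      refine finsum_congr fun p => ?_
      obtain ⟨q⟩ := nonempty_twistQuot_equiv k J (Groth.L18.Ample.isInvertible_structureModule X) p
      rw [← finrank_HH_of_iso (tensorUnitLeft (ClSub.quotMod J)), q.finrank_eq]
      exact congrArg (fun z : ℕ => (-1 : ℤ) ^ p * (z : ℤ)) (finrank_HH_of_iso eO p)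
    have hχ : Curv2.euler k C (Coh.structureModule C) = 1 - (Curv2.genus k C : ℤ) := by
      rw [Groth.L21.RR.euler_eq k hC1.le, Groth.L22.CurveDeg.h0_structure_eq_one k]
      rfl
    have hχQ : (Curv2.euler k X (Coh.structureModule X) : ℚ) - Curv2.euler k X (ClSub.idealMod i.ker) =
        1 - (Curv2.genus k C : ℚ) := by
      have h2 : Curv2.euler k X (Coh.structureModule X) - Curv2.euler k X (ClSub.idealMod i.ker) =
          1 - (Curv2.genus k C : ℤ) := by rw [hses, hQ, hχ]; ring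
      exact_mod_cast h2
    linarith
  have hdPω := Groth.L03.SurfNum.CurveDegree.deg_pullback k i hdim hreg hJdim hω
  have hdPW := Groth.L03.SurfNum.CurveDegree.deg_pullback k i hdim hreg hJdim hWinv
  let eN' : CohB1.tensorMod N₀ (P.obj ω) ≅ P.obj W := by
    refine (tensorUnitRight _).symm ≪≫ tensorIso (Iso.refl _) eMC.symm ≪≫ (tensorAssoc _ _ _).symm ≪≫
      tensorIso (tensorAssoc _ _ _ ≪≫ tensorIso (Iso.refl _) (Groth.L29.DC.PullTensor.pullTensor i ω M) ≪≫
        eN ≪≫ eΩ ≪≫ tensorComm _ _) (Iso.refl _) ≪≫ tensorAssoc _ _ _ ≪≫ tensorIso (Iso.refl _) eMC ≪≫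
        tensorUnitRight _
  haveI : Nontrivial (Coh.HH C N₀ 0) := by
    refine Module.nontrivial_of_finrank_pos (R := k) ?_
    show 0 < h k 0 N₀
    rw [hN0, h1J]
    exact one_pos
  have hdegN : Curv2.deg k C N₀ 1 = 0 := by
    obtain ⟨s, hs⟩ := Groth.L21.RR.exists_hom_ne_zero (L := N₀)
    have hadd := Groth.L22.CurveDeg.deg_tensor_of_section (k := k) hC1.le
      (Groth.L18.Ample.isInvertible_pullback i hω) hN₀ hs
    rw [Groth.L21.RR.deg_congr k (tensorComm (P.obj ω) N₀ ≪≫ eN') 1] at hadd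
    have h2 := congrArg (fun z : ℤ => (z : ℚ)) hadd
    simp only [Int.cast_add] at h2
    rw [hdPW, hdPω, hsame] at h2
    have h3 : (Curv2.deg k C N₀ 1 : ℚ) = 0 := by linarith
    exact_mod_cast h3
  obtain ⟨eN0⟩ := Groth.L21.Duality.nonempty_iso_of_deg_eq_zero (k := k) hC1.le hN₀ hdegN inferInstance
  let eres : P.obj ω ≅ P.obj W := (tensorUnitLeft _).symm ≪≫ tensorIso eN0 (Iso.refl _) ≪≫ eN'
  -- the difference
  obtain ⟨W', hW', ⟨eW'⟩⟩ := Groth.L08.Cube.exists_inverse hWinv
  let Nd := CohB1.tensorMod ω W'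
  have hNd : PicF.IsInvertible Nd := Groth.L18.GenLoc.isInvertible_tensor hω hW'
  let eNC : P.obj Nd ≅ Coh.structureModule C :=
    (Groth.L29.DC.PullTensor.pullTensor i ω W').symm ≪≫ tensorIso eres (Iso.refl _) ≪≫
      Groth.L29.DC.PullTensor.pullTensor i W W' ≪≫ P.mapIso eW' ≪≫ eO
  have hT2 := Groth.L21.RR.shortExact_tw J hNd
  have hsur : Function.Surjective (overLin k (hmap (Groth.L21.RR.twπ Nd J) 0)) := by
    let Q := CohB1.tensorMod W M
    let Q' := CohB1.tensorMod W' M'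
    let eQ : CohB1.tensorMod Q Q' ≅ Coh.structureModule X :=
      tensorAssoc _ _ _ ≪≫ tensorIso (Iso.refl _) ((tensorAssoc _ _ _).symm ≪≫
        tensorIso (tensorComm M W') (Iso.refl _) ≪≫ tensorAssoc _ _ _ ≪≫ tensorIso (Iso.refl _) eM ≪≫
        tensorUnitRight _) ≪≫ eW'
    have h1 := hflip Q Q' (Groth.L18.GenLoc.isInvertible_tensor hWinv hM) ⟨eQ⟩ 1 one_le_two
    rw [hWM 1 one_pos, finrank_HH_of_iso ((tensorAssoc ω W' M').symm ≪≫ tensorIso (Iso.refl Nd) eJ.symm)] at h1
    haveI : Subsingleton (Coh.HH X (CohB1.tensorMod Nd (ClSub.idealMod J)) 1) :=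
      hfin (Groth.L18.GenLoc.isInvertible_tensor hNd (Groth.L18.Ample.isInvertible_of_iso eJ.symm hM')) 1 h1
    exact fun y => (exact_hmap_delta hT2 0 y).1 (Subsingleton.elim (α := Coh.HH X (CohB1.tensorMod Nd (ClSub.idealMod J)) 1) _ _)
  haveI : Nontrivial (Coh.HH X Nd 0) := by
    obtain ⟨q⟩ := nonempty_twistQuot_equiv k J hNd 0
    haveI : Nontrivial (Coh.HH C (P.obj Nd) 0) := by
      refine Module.nontrivial_of_finrank_pos (R := k) ?_
      rw [finrank_HH_of_iso eNC]
      show 0 < h k 0 (Coh.structureModule C)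
      rw [Groth.L22.CurveDeg.h0_structure_eq_one k]
      exact one_pos
    exact Function.Surjective.nontrivial (q.surjective.comp hsur)
  obtain ⟨s, hs⟩ := Groth.L21.RR.exists_hom_ne_zero (L := Nd)
  have hNH : ii k Nd H = 0 := by
    have h1 := Groth.L03.SurfNum.CurveDegree.deg_pullback k i hdim hreg hJdim hNd
    rw [Groth.L21.RR.deg_congr k eNC 1, Groth.L22.CurveDeg.deg_structure k, Int.cast_zero, ii_congr k eI,
      ii_comm, ii_comm k Nd M', Groth.L03.SurfDual.ii_inv k hdim.le hM hM' eM Nd hNd, neg_neg, hMdef,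
      ii_pow k hdim.le hH.1 hNd, ii_comm] at h1
    have hm : (m : ℚ) ≠ 0 := Nat.cast_ne_zero.2 (show m ≠ 0 by omega)
    exact (mul_eq_zero.1 h1.symm).resolve_left hm
  have hiso : Nonempty (Coh.structureModule X ≅ Nd) := by
    by_contra hne
    have := ii_effective_pos k hdim.le hdim hNd hH s hs (not_nonempty_iff.1 hne)
    linarith
  obtain ⟨e⟩ := hiso
  exact ⟨(tensorUnitRight ω).symm ≪≫ tensorIso (Iso.refl ω) (eW'.symm ≪≫ tensorComm W W') ≪≫
    (tensorAssoc _ _ _).symm ≪≫ tensorIso e.symm (Iso.refl W) ≪≫ tensorUnitLeft W⟩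

/-- Duality and Riemann–Roch with the determinant of the differentials as canonical module. -/
theorem canonical (hdim : topologicalKrullDim X = 2)
    (hreg : ∀ x : X, IsRegularLocalRing (X.presheaf.stalk x))
    {W : X.Modules} (hW : ExtPow.IsExtPow 2 (Omega.sheaf (X ↘ Spec (CommRingCat.of k))) W) :
    PicF.IsInvertible W ∧
      (∀ L L' : X.Modules, PicF.IsInvertible L → Nonempty (CohB1.tensorMod L L' ≅ Coh.structureModule X) →
        ∀ i : ℕ, i ≤ 2 → Module.finrank k (Coh.HH X (CohB1.tensorMod W L') i) =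
          Module.finrank k (Coh.HH X L (2 - i))) ∧
      (∀ i : ℕ, i ≤ 2 → Module.finrank k (Coh.HH X W i) =
          Module.finrank k (Coh.HH X (Coh.structureModule X) (2 - i))) ∧
      ∀ L : X.Modules, PicF.IsInvertible L → 2 * (Curv2.euler k X L : ℚ) =
        ii k L L - ii k L W + 2 * (Curv2.euler k X (Coh.structureModule X) : ℚ) := by
  haveI := Groth.L21.RR.isNoetherian_of_proper (X := X) k
  have hd2 : topologicalKrullDim X = (2 : ℕ) := hdim.trans Nat.cast_ofNat.symm
  obtain ⟨H, hH⟩ := Groth.L03.SurfAmple.exists_ample k X hd2 hreg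
  obtain ⟨ω, hω, hflip, hflip0, hRR⟩ := exists_canonical k hdim hreg (exists_proj k hH)
  obtain ⟨e⟩ := exists_canonical_iso k hd2 hreg hW hω hflip hflip0 hRR
  refine ⟨Groth.L18.Ample.isInvertible_of_iso e hω, fun L L' hL hLL i hi => ?_, fun i hi => ?_, fun L hL => ?_⟩
  · rw [← finrank_HH_of_iso (tensorIso e (Iso.refl L'))]
    exact hflip L L' hL hLL i hi
  · rw [← finrank_HH_of_iso e]
    exact hflip0 i hi
  · rw [hRR L hL, ii_comm k L ω, ii_congr k e L, ii_comm k W L]

end Groth.L03.SurfAdj
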