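import Groth.Agent.L03.SurfAdj.Tools
import Groth.Agent.L03.SurfNum.Fibre
import Groth.Agent.L03.SurfNum.Decomp
import Groth.Agent.L03.SurfAmple.Product
import Groth.Agent.L03.SurfAmple.Exists
import Groth.Agent.L08.Cube.DivSection

/-!
Vertical curves of a fibration of a surface over a curve.
-/

set_option autoImplicit false
set_option backward.isDefEq.respectTransparency false
set_option linter.style.haveILetI false
set_option linter.unusedSectionVars false
universe u

open CategoryTheory CategoryTheory.Limits AlgebraicGeometry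

noncomputable section

namespace Groth.L03.SurfAdj

open Groth.L22.Inter Groth.L22.Nef Groth.L22.Big Groth.L03.Euler Groth.L03.SurfNum
open Groth.L00.Tensor (tensorIso tensorComm)

variable (k : Type u) [Field k] {C : Scheme.{u}} [C.Over (Spec (CommRingCat.of k))]
  [IsProper (C ↘ Spec (CommRingCat.of k))] [Smooth (C ↘ Spec (CommRingCat.of k))] [IsIntegral C]
  {S : Scheme.{u}} [S.Over (Spec (CommRingCat.of k))] [IsProper (S ↘ Spec (CommRingCat.of k))]
  [IsIntegral S] (f : S ⟶ C)

/-- Modules from the base have degree zero on a curve in a fibre. -/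
theorem ii_pullback_vertical [f.IsOver (Spec (CommRingCat.of k))] {M : C.Modules} (hM : PicF.IsInvertible M) (Γ : S.IdealSheafData)
    [IsIntegral Γ.subscheme] (hd : topologicalKrullDim (Γ.support : Set S) = 1)
    (hΓ : PicF.IsInvertible (ClSub.idealMod Γ)) {c : C} (hsub : ∀ x : S, x ∈ Γ.support → f.base x = c) :
    ii k ((Scheme.Modules.pullback f).obj M) (ClSub.idealMod Γ) = 0 := by
  haveI := Groth.L21.RR.isNoetherian_of_proper (X := S) k
  have hfM := Groth.L18.Ample.isInvertible_pullback f hM
  let g := Γ.subschemeι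
  obtain ⟨t, ht⟩ : ∃ t : Γ.subscheme ⟶ Spec (C.residueField c), t ≫ C.fromSpecResidueField c = g ≫ f := by
    have hc : IsClosed ({c} : Set C) := by
      haveI : IsProper (f ≫ (C ↘ Spec (CommRingCat.of k))) := by rw [comp_over]; infer_instance
      haveI : IsProper f := IsProper.of_comp f (C ↘ Spec (CommRingCat.of k))
      have h1 : ({c} : Set C) = f '' (Γ.support : Set S) := by
        ext z
        constructor
        · rintro rfl
          obtain ⟨x⟩ := (inferInstance : Nonempty Γ.subscheme)
          exact ⟨g x, by rw [← Scheme.IdealSheafData.range_subschemeι]; exact Set.mem_range_self x,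
            hsub _ (show g x ∈ (Γ.support : Set S) by
              rw [← Scheme.IdealSheafData.range_subschemeι]; exact Set.mem_range_self x)⟩
        · rintro ⟨x, hx, rfl⟩
          exact hsub x hx
      rw [h1]
      exact f.isClosedMap _ Γ.support.isClosed
    haveI : IsClosedImmersion (C.fromSpecResidueField c) := isClosed_singleton_iff_isClosedImmersion.mp hc
    refine Groth.L24.GrpdField.exists_lift_of_range_subset (C.fromSpecResidueField c) (g ≫ f) ?_
    rintro _ ⟨z, rfl⟩
    rw [Scheme.range_fromSpecResidueField]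
    exact hsub _ (show g z ∈ (Γ.support : Set S) by
      rw [← Scheme.IdealSheafData.range_subschemeι]; exact Set.mem_range_self z)
  haveI : Subsingleton (Spec (C.residueField c)) :=
    inferInstanceAs (Subsingleton (PrimeSpectrum (C.residueField c)))
  obtain ⟨θ⟩ := (PicGrp.cl_eq_cl_iff _ _).1
    (Groth.Agent.AbDualLib.eq_oneCl_of_subsingleton (Y := Spec (C.residueField c))
      (c := PicF.cl ((Scheme.Modules.pullback (C.fromSpecResidueField c)).obj M))
      ⟨_, rfl, Groth.L18.Ample.isInvertible_pullback _ hM⟩)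
  let θM : (Scheme.Modules.pullback g).obj ((Scheme.Modules.pullback f).obj M) ≅ Coh.structureModule Γ.subscheme :=
    (Scheme.Modules.pullbackComp g f).app M ≪≫
      (Scheme.Modules.pullbackCongr ht.symm).app _ ≪≫ ((Scheme.Modules.pullbackComp t _).app _).symm ≪≫
      (Scheme.Modules.pullback t).mapIso θ ≪≫ Groth.L29.LocFree.pullbackUnitIso t
  letI : Γ.subscheme.Over (Spec (CommRingCat.of k)) := ⟨g ≫ (S ↘ Spec (CommRingCat.of k))⟩
  haveI : IsProper (Γ.subscheme ↘ Spec (CommRingCat.of k)) :=
    inferInstanceAs (IsProper (g ≫ (S ↘ Spec (CommRingCat.of k))))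
  have hd' : topologicalKrullDim Γ.subscheme = (1 : ℕ) := by
    rw [← dim_closure_image g, ← dim_support Γ, hd, Nat.cast_one]
  have h2 := altT_push_eq k g rfl hd' (L := fun _ : Fin 1 => (Scheme.Modules.pullback f).obj M) fun _ => hfM
  rw [← eq_pt Γ] at h2
  rw [altT_trivial θM _, altT_quotMod_eq k hfM Γ hΓ] at h2
  rw [ii_comm]
  linarith

variable [IsAlgClosed k] [Smooth (S ↘ Spec (CommRingCat.of k))]

/-- Squares of fibres and of vertical curves, and the degree of a class on a vertical curve of square zero. -/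
theorem vertical_facts (hdim : topologicalKrullDim S = 2) (hdC : topologicalKrullDim C = 1)
    [f.IsOver (Spec (CommRingCat.of k))] [Surjective f] {q : C} (hq : IsClosed ({q} : Set C))
    (D : S.IdealSheafData) [IsIntegral D.subscheme] (hD : topologicalKrullDim (D.support : Set S) = 1)
    {c : C} (hDc : ∀ x : S, x ∈ D.support → f.base x = c) :
    PicF.IsInvertible (ClSub.idealMod D) ∧
      ii k (ClSub.idealMod (f.fiberι q).ker) (ClSub.idealMod (f.fiberι q).ker) = 0 ∧
      ii k (ClSub.idealMod D) (ClSub.idealMod D) ≤ 0 ∧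
      ∀ W : S.Modules, PicF.IsInvertible W → ii k (ClSub.idealMod D) (ClSub.idealMod D) = 0 →
        ii k (ClSub.idealMod (f.fiberι q).ker) W < 0 → ii k (ClSub.idealMod D) W < 0 := by
  have hd2 : topologicalKrullDim S = (2 : ℕ) := hdim.trans Nat.cast_ofNat.symm
  have hd := hd2.le
  haveI := Groth.L21.RR.isNoetherian_of_proper (X := S) k
  obtain ⟨H, hH⟩ := Groth.L03.SurfAmple.exists_ample_of_smooth k S hdim
  have hreg := reg_of_smooth k (X := S)
  have hDi := Groth.L03.SurfNum.isInvertible_idealMod k hd2 hreg D hD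
  obtain ⟨hIF, hIq, hsupp, ⟨α⟩⟩ := fibre_ideal k hdC f hq
  let IF := ClSub.idealMod (f.fiberι q).ker
  have hvert : ∀ (Γ : S.IdealSheafData) [IsIntegral Γ.subscheme], topologicalKrullDim (Γ.support : Set S) = 1 →
      PicF.IsInvertible (ClSub.idealMod Γ) → ∀ {z : C}, (∀ x : S, x ∈ Γ.support → f.base x = z) →
      ii k IF (ClSub.idealMod Γ) = 0 := fun Γ _ h1 h2 _ h3 =>
    (ii_congr k α _).symm.trans (ii_pullback_vertical k f hIq Γ h1 h2 h3)
  obtain ⟨LF, s, hLF, ⟨e⟩, hloc⟩ := Groth.L08.Cube.exists_section_of_effCartier (f.fiberι q).ker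
    ((Groth.Agent.L19.IdealInvertible.isEffCartier_iff _).1 hIF)
  have hη : genericPoint S ∈ CohB1.genLocus LF s := by
    show genericPoint S ∈ (CohB1.genLocus LF s : Set S)
    rw [hloc, Set.mem_compl_iff, hsupp, Set.mem_preimage, Set.mem_singleton_iff]
    intro h
    have h1 : ∀ x : S, f x = q := fun x => by
      have hx : x ∈ f ⁻¹' {q} :=
        ((genericPoint_spec S).specializes (Set.mem_univ x)).mem_closed (hq.preimage f.continuous) h
      exact hx
    refine genericPoint_notMem_point k hdC hq ?_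
    obtain ⟨x, hx⟩ := Surjective.surj (f := f) (genericPoint C)
    rw [← hx, h1 x]
    rfl
  obtain ⟨T, m, hT, -, hsum⟩ := exists_sum_curves k hd hLF s hη
  have hFF' : ii k LF IF = 0 := by
    rw [hsum IF hIF]
    refine Finset.sum_eq_zero fun y hy => ?_
    haveI := isIntegral_pt y
    have hy1 : topologicalKrullDim ((pt y).support : Set S) = 1 := by
      rw [Groth.L18.support_vanishingIdeal]
      exact (hT y hy).1.trans Nat.cast_one
    have hyi := Groth.L03.SurfNum.isInvertible_idealMod k hd2 hreg (pt y) hy1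
    have hyq : ∀ x : S, x ∈ (pt y).support → f.base x = q := fun x hx => by
      have hxy : x ∈ closure ({y} : Set S) := (Groth.L18.support_vanishingIdeal _).le hx
      have hyF : y ∈ f ⁻¹' {q} := by
        rw [← hsupp]
        by_contra hns
        refine (hT y hy).2 ?_
        show y ∈ (CohB1.genLocus LF s : Set S)
        rw [hloc]
        exact hns
      exact closure_minimal (Set.singleton_subset_iff.2 hyF) (hq.preimage f.continuous) hxy
    rw [altT_quotMod_eq k hIF (pt y) hyi, ii_comm, hvert (pt y) hy1 hyi hyq, neg_zero, mul_zero]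
  have hinv : ∀ B : S.Modules, PicF.IsInvertible B → ii k LF B = - ii k IF B := fun B hB =>
    Gram.ii_inverse k hd hIF hLF hB e
  have hFF : ii k IF IF = 0 := by linarith [hinv IF hIF]
  have hDF : ii k IF (ClSub.idealMod D) = 0 := hvert D hD hDi hDc
  have hDH := Gram.curve_ample_neg k hd hH D hD hDi
  have hFne : (f.fiberι q).ker ≠ ⊤ := fun h => by
    obtain ⟨x, hx⟩ := Surjective.surj (f := f) q
    have : x ∈ (f ⁻¹' {q} : Set S) := hx
    rw [← hsupp, h, Scheme.IdealSheafData.support_top] at this
    exact this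
  have hFH := Groth.L03.SurfAmple.ii_ideal_ample_neg k hd2
    ((Groth.Agent.L19.IdealInvertible.isEffCartier_iff _).1 hIF) hFne hH
  obtain ⟨a, ha⟩ : ∃ a : ℕ, (a : ℚ) = - ii k IF H := by
    refine ⟨(-(FGA.intNum k S 2 ![IF, H] (Coh.structureModule S))).toNat, ?_⟩
    have h := intNum_eq_ii k hd IF H
    have h' : 0 ≤ -(FGA.intNum k S 2 ![IF, H] (Coh.structureModule S)) := by
      have : ((FGA.intNum k S 2 ![IF, H] (Coh.structureModule S) : ℤ) : ℚ) < 0 := by rw [h]; exact hFH
      have h'' : FGA.intNum k S 2 ![IF, H] (Coh.structureModule S) < 0 := by exact_mod_cast this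
      omega
    rw [← h, ← Int.cast_natCast, Int.toNat_of_nonneg h', Int.cast_neg]
  obtain ⟨b, hb⟩ : ∃ b : ℕ, (b : ℚ) = - ii k (ClSub.idealMod D) H := by
    refine ⟨(-(FGA.intNum k S 2 ![ClSub.idealMod D, H] (Coh.structureModule S))).toNat, ?_⟩
    have h := intNum_eq_ii k hd (ClSub.idealMod D) H
    have h' : 0 ≤ -(FGA.intNum k S 2 ![ClSub.idealMod D, H] (Coh.structureModule S)) := by
      have : ((FGA.intNum k S 2 ![ClSub.idealMod D, H] (Coh.structureModule S) : ℤ) : ℚ) < 0 := by rw [h]; exact hDH
      have h'' : FGA.intNum k S 2 ![ClSub.idealMod D, H] (Coh.structureModule S) < 0 := by exact_mod_cast this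
      omega
    rw [← h, ← Int.cast_natCast, Int.toNat_of_nonneg h', Int.cast_neg]
  have hDa := Groth.L18.Ample.isInvertible_tensorPow hDi a
  have hFb := Groth.L18.Ample.isInvertible_tensorPow hLF b
  let Z := CohB1.tensorMod (CohB1.tensorPow (ClSub.idealMod D) a) (CohB1.tensorPow LF b)
  have hZ : PicF.IsInvertible Z := Groth.L18.GenLoc.isInvertible_tensor hDa hFb
  have hZB : ∀ B : S.Modules, PicF.IsInvertible B →
      ii k Z B = (a : ℚ) * ii k (ClSub.idealMod D) B + (b : ℚ) * - ii k IF B := fun B hB => by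
    rw [ii_tensor k hd hDa hFb hB, ii_pow k hd hDi hB, ii_pow k hd hLF hB, hinv B hB]
  have hZH : ii k H Z = 0 := by
    rw [ii_comm, hZB H hH.1, ha, hb]; ring
  obtain ⟨hle, heq⟩ := Groth.L03.SurfNum.eq_zero_of_orth_ii k hd hH.1 hZ hH hd2 (ii_ample_pos k hd hd2 hH) hZH
  have hZZ : ii k Z Z = (a : ℚ) ^ 2 * ii k (ClSub.idealMod D) (ClSub.idealMod D) := by
    rw [hZB Z hZ, ii_comm k (ClSub.idealMod D) Z, ii_comm k IF Z, hZB _ hDi, hZB _ hIF, hDF,
      ii_comm k (ClSub.idealMod D) IF, hDF, hFF]
    ring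
  have ha0 : (0 : ℚ) < a := by rw [ha]; linarith
  refine ⟨hDi, hFF, ?_, fun W hW hDD hFW => ?_⟩
  · rw [hZZ] at hle
    exact nonpos_of_mul_nonpos_right hle (by positivity)
  · have h0 := heq (by rw [hZZ, hDD, mul_zero]) W hW
    rw [hZB W hW] at h0
    have hb0 : (0 : ℚ) < b := by rw [hb]; linarith
    nlinarith

end Groth.L03.SurfAdj
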